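import Cfsg.Agent.Lib.Recog.FiM22.TraceCheck
import Cfsg.Agent.Lib.Recog.SporBound.Fi22U6.Class
import Cfsg.Agent.Lib.Classical.SmallOrtho.UFourTwo
import Cfsg.Prelude.Def_FischerSpaces

set_option autoImplicit false
set_option maxRecDepth 20000

/-!
A group of type M(22) is the presented Fischer group Fi22 with its class of transpositions (owner: helper13).
-/

namespace CfsgLib.Recog.FiM22

open Cfsg CfsgLib.ThreeTrans CfsgLib.Recog.SporBound
open CfsgLib.ThreeTrans.CosetIndex (forallFrom forallFrom_elim letters relWords hom_eq_prod)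
open Cfsg.Agent.S1687 (gens fits)

theorem rel_mem {r : FreeGroup Spor.Fi22.Gen}
    (hr : r ∈ Spor.coxRelators Spor.Fi22.edges ∪ {r | r ∈ Spor.Fi22.extra}) :
    letters gens r ∈ relWords Spor.Fi22.edges Spor.Fi22.extra gens := by
  rw [relWords, List.mem_append]
  rcases hr with ⟨x, hx, y, hy, rfl⟩ | hr
  · exact Or.inl (List.mem_flatMap.2 ⟨x, hx, List.mem_map.2 ⟨y, hy, rfl⟩⟩)
  · exact Or.inr (List.mem_map.2 ⟨r, hr, rfl⟩)

universe u

variable {G : Type u} [Group G] [Finite G] {D : Set G} {a : G}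

/-- The identification with Fi22, carrying the first generator to the given member. -/
theorem identify (B : Base D a) :
    ∃ e : Spor.Fi22 ≃* G, e (Fi22Group.a 0) = a ∧ e '' conjugatesOf (Fi22Group.a 0) = D := by
  obtain ⟨b, lab, F⟩ := exists_frame B
  set L := letter a b lab with hL
  have hsq : ∀ x, L x * L x = 1 := letter_sq B F
  have hrel : ∀ r ∈ Spor.coxRelators Spor.Fi22.edges ∪ {r | r ∈ Spor.Fi22.extra},
      FreeGroup.lift (fun y => L (gens.idxOf y)) r = 1 := by
    intro r hr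
    rw [hom_eq_prod gens (FreeGroup.lift fun y => L (gens.idxOf y)) L (fun y => FreeGroup.lift_apply_of) hsq r]
    have h := List.all_eq_true.1 relTrace_checked _ (rel_mem hr)
    simp only [Bool.and_eq_true, List.all_eq_true] at h
    have := word_eq B F (u := letters gens r) (w := []) (fun x hx => by
      have : x < 9 := by simpa using h.1 x hx
      omega) (fun x hx => absurd hx List.not_mem_nil) fun c hc =>
        Nat.eq_of_beq_eq_true (h.2 c (List.mem_range.2 hc))
    simpa using this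
  let ψ : Spor.Fi22 →* G := PresentedGroup.toGroup hrel
  have hψ : ∀ y, ψ (PresentedGroup.of y) = L (gens.idxOf y) := fun y => PresentedGroup.toGroup.of hrel
  have hgen : ∀ x, x < 9 → ψ (Fi22Group.a x) = L x := by
    intro x hx
    obtain ⟨y, rfl⟩ : ∃ y, gens.idxOf y = x := by
      have h : ∀ x < 9, ∃ y ∈ gens, gens.idxOf y = x := by decide
      obtain ⟨y, -, hy⟩ := h x hx
      exact ⟨y, hy⟩
    rw [Fi22Group.a, gen_of Fi22Group.nodes, hψ]
  have hlast : ∀ x, 9 ≤ x → x < 13 → L x ∈ ψ.range := by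
    intro x h9 h13
    obtain ⟨j, hj, rfl⟩ : ∃ j, j < 4 ∧ x = j + 9 := ⟨x - 9, by omega, by omega⟩
    have h := List.all_eq_true.1 last_checked j (List.mem_range.2 hj)
    simp only [Bool.and_eq_true, List.all_eq_true] at h
    have hw : ∀ y ∈ lastWords.getD j [], y < 9 := fun y hy => by simpa using h.1 y hy
    have := word_eq B F (u := lastWords.getD j []) (w := [j + 9])
      (fun y hy => (hw y hy).trans (by norm_num)) (fun y hy => by rw [List.mem_singleton.1 hy]; omega)
      fun c hc => Nat.eq_of_beq_eq_true (h.2 c (List.mem_range.2 hc))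
    rw [List.map_cons, List.map_nil, List.prod_singleton] at this
    rw [hL, ← this]
    refine list_prod_mem fun z hz => ?_
    obtain ⟨y, hy, rfl⟩ := List.mem_map.1 hz
    exact ⟨_, hgen y (hw y hy)⟩
  have hsurj : Function.Surjective ψ := by
    rw [← MonoidHom.range_eq_top, eq_top_iff, ← letters_top B F, Subgroup.closure_le]
    rintro _ ⟨x, hx, rfl⟩
    have hx13 : x < 13 := (by decide : ∀ x ∈ Enum.cert.kl, x < 13) x hx
    rcases Nat.lt_or_ge x 9 with h | h
    · exact ⟨_, hgen x h⟩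
    · exact hlast x h hx13
  have ha0 : ψ (Fi22Group.a 0) = a := hgen 0 (by norm_num)
  haveI := Fi22Group.isSimple
  have hinj : Function.Injective ψ := by
    rcases ψ.normal_ker.eq_bot_or_eq_top with h | h
    · exact (MonoidHom.ker_eq_bot_iff ψ).1 h
    · exfalso
      obtain ⟨g, hg⟩ := hsurj a
      have h1 : a = 1 := by
        rw [← hg]
        exact MonoidHom.mem_ker.1 (h ▸ Subgroup.mem_top g)
      exact F.far (h1 ▸ Commute.one_left b)
  let e : Spor.Fi22 ≃* G := MulEquiv.ofBijective ψ ⟨hinj, hsurj⟩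
  refine ⟨e, ha0, ?_⟩
  ext d
  constructor
  · rintro ⟨y, hy, rfl⟩
    obtain ⟨g, rfl⟩ := isConj_iff.1 hy
    rw [map_mul, map_mul, map_inv, show e (Fi22Group.a 0) = a from ha0]
    exact B.grp.2.1 _ a B.mem
  · intro hd
    obtain ⟨g, rfl⟩ := B.prim.1 a B.mem d hd
    refine ⟨e.symm g * Fi22Group.a 0 * (e.symm g)⁻¹, isConj_iff.2 ⟨_, rfl⟩, ?_⟩
    rw [map_mul, map_mul, map_inv, MulEquiv.apply_symm_apply, show e (Fi22Group.a 0) = a from ha0]

theorem psu_six_equiv {F : Type} [Field F] [Fintype F] (hF : Fintype.card F = 4) :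
    Nonempty (Cfsg.PSU 6 F 2 ≃* Q6) := by
  let r : F ≃+* Fi22U6.F4 := FiniteField.ringEquivOfCardEq (by rw [hF, Fi22U6.F4.card]; rfl)
  exact ⟨QuotientGroup.congr _ _ (CfsgLib.Classical.UFourTwo.suMap r)
    (CfsgLib.Classical.Herm.map_center_of_equiv (CfsgLib.Classical.UFourTwo.suMap r))⟩

/-- A member as in the definition of type M(22). -/
theorem exists_base (hD : IsThreeTranspositionGroup D) (hprim : IsPrimitiveUnderConj D) (ht : IsOfTypeM22 G D) :
    ∃ d, Nonempty (Base D d) := by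
  obtain ⟨hZ, d, hd, c, -, -, ⟨F, _, _, hF, ⟨φ⟩⟩, -⟩ := ht
  obtain ⟨π⟩ := psu_six_equiv hF
  have hset : {y : G | y ∈ D ∧ y ≠ d ∧ Commute d y} = nbrs D d := rfl
  refine ⟨d, ⟨{
    grp := hD
    prim := hprim
    centre := hZ
    mem := hd
    proj := (φ.trans π).toMonoidHom.comp (QuotientGroup.mk' _)
    surj := (φ.trans π).surjective.comp (QuotientGroup.mk'_surjective _)
    kerLe := fun x hx => ?_ }⟩⟩
  rw [MonoidHom.mem_ker, MonoidHom.comp_apply] at hx
  exact (QuotientGroup.eq_one_iff x).1 ((φ.trans π).injective (hx.trans (map_one _).symm))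

theorem identify_of_type (hD : IsThreeTranspositionGroup D) (hprim : IsPrimitiveUnderConj D)
    (ht : IsOfTypeM22 G D) : ∃ e : Spor.Fi22 ≃* G, e '' conjugatesOf (Fi22Group.a 0) = D := by
  obtain ⟨d, ⟨B⟩⟩ := exists_base hD hprim ht
  obtain ⟨e, -, he⟩ := identify B
  exact ⟨e, he⟩

end CfsgLib.Recog.FiM22
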