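import Cfsg.Agent.Lib.Recog.FiM22.Classify

set_option autoImplicit false
set_option maxRecDepth 20000

/-!
At most 21 isotropic points are pairwise orthogonal, and there are 21 such points (owner: helper13).
-/

namespace CfsgLib.Recog.FiM22

open CfsgLib.Recog.SporBound.Fi22U6
open CfsgLib.ThreeTrans.CosetIndex (forallFrom forallFrom_elim)

/-- A maximal set of pairwise orthogonal points. -/
noncomputable def cliqueL : List ℕ :=
  List.rec (motive := fun _ => List ℕ) [] (fun r _ acc => cond (acc.all (com r)) (r :: acc) acc) (List.range 693)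

/-- The check of the set. -/
noncomputable def cliqueOK : Bool :=
  Nat.beq cliqueL.length 21 && (nodupB cliqueL && cliqueL.all (fun r => Nat.blt r 693 && cliqueL.all (com r)))

theorem clique_checked : cliqueOK = true := by decide +kernel

theorem nodup_of_nodupB : ∀ {l : List ℕ}, nodupB l = true → l.Nodup
  | [], _ => List.nodup_nil
  | x :: l, h => by
    have h' : (!(memb x l) && nodupB l) = true := h
    simp only [Bool.and_eq_true, Bool.not_eq_true'] at h'
    refine List.nodup_cons.2 ⟨fun hm => ?_, nodup_of_nodupB h'.2⟩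
    have : memb x l = true := by
      clear h h'
      induction l with
      | nil => simp at hm
      | cons y l ih =>
        show cond (Nat.beq x y) true (memb x l) = true
        rcases List.mem_cons.1 hm with rfl | hm
        · simp
        · simp [ih hm]
    rw [h'.1] at this
    exact Bool.noConfusion this

/-- A set of 21 pairwise orthogonal points. -/
theorem exists_clique : ∃ S : Finset ℕ, S.card = 21 ∧ (∀ r ∈ S, r < 693) ∧ ∀ r ∈ S, ∀ s ∈ S, com r s = true := by
  have h := clique_checked
  simp only [cliqueOK, Bool.and_eq_true, Nat.beq_eq, List.all_eq_true] at h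
  refine ⟨cliqueL.toFinset, by rw [List.toFinset_card_of_nodup (nodup_of_nodupB h.2.1), h.1], fun r hr => ?_,
    fun r hr s hs => (h.2.2 r (List.mem_toFinset.1 hr)).2 s (List.mem_toFinset.1 hs)⟩
  simpa using (h.2.2 r (List.mem_toFinset.1 hr)).1

theorem herm_of_com {r s : ℕ} (h : com r s = true) : Cfsg.hermForm 6 F4 2 (vec (code s)) (vec (code r)) = 0 := by
  have h' : dot (code s) (code r) = 0 := Nat.eq_of_beq_eq_true h
  rw [← (dot_spec _ _).2, h']
  exact ((ofNat4_eq ⟨0, by norm_num⟩).1).2 rfl

/-- The form with its second argument fixed, on a subspace. -/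
noncomputable def hermHom (W : Submodule F4 (Fin 6 → F4)) : (Fin 6 → F4) →+ (W →ₗ[F4] F4) where
  toFun w :=
    { toFun := fun v => Cfsg.hermForm 6 F4 2 (v : Fin 6 → F4) w
      map_add' := fun a b => by
        simp only [Cfsg.hermForm, Submodule.coe_add, Pi.add_apply, add_mul, Finset.sum_add_distrib]
      map_smul' := fun c a => by
        simp only [Cfsg.hermForm, Submodule.coe_smul, Pi.smul_apply, smul_eq_mul, Finset.mul_sum, mul_assoc,
          RingHom.id_apply] }
  map_zero' := LinearMap.ext fun v => by simp [Cfsg.hermForm]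
  map_add' w w' := LinearMap.ext fun v => by
    have hsq : ∀ x y : F4, (x + y) ^ 2 = x ^ 2 + y ^ 2 := by decide +kernel
    show Cfsg.hermForm 6 F4 2 _ (w + w') = Cfsg.hermForm 6 F4 2 _ w + Cfsg.hermForm 6 F4 2 _ w'
    simp only [Cfsg.hermForm, Pi.add_apply, hsq, mul_add, Finset.sum_add_distrib]

theorem hermHom_surjective (W : Submodule F4 (Fin 6 → F4)) : Function.Surjective (hermHom W) := by
  intro φ
  obtain ⟨ψ, hψ⟩ := LinearMap.exists_extend φ
  refine ⟨fun i => ψ (Pi.single i 1) ^ 2, LinearMap.ext fun v => ?_⟩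
  have hfour : ∀ x : F4, (x ^ 2) ^ 2 = x := by decide +kernel
  show Cfsg.hermForm 6 F4 2 (v : Fin 6 → F4) (fun i => ψ (Pi.single i 1) ^ 2) = φ v
  have e : φ v = ψ (v : Fin 6 → F4) := by rw [← hψ]; rfl
  have e2 : (v : Fin 6 → F4) = ∑ i, (v : Fin 6 → F4) i • Pi.single i (1 : F4) := by
    funext j
    simp [Finset.sum_apply, Pi.single_apply]
  rw [e]
  conv_rhs => rw [e2]
  simp only [Cfsg.hermForm, hfour, map_sum, map_smul, smul_eq_mul]

/-- A totally isotropic subspace has at most 64 vectors. -/
theorem card_isotropic_le (W : Submodule F4 (Fin 6 → F4))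
    (h : ∀ v ∈ W, ∀ w ∈ W, Cfsg.hermForm 6 F4 2 v w = 0) : Nat.card W ≤ 64 := by
  have hle : W.toAddSubgroup ≤ (hermHom W).ker := fun w hw =>
    (AddMonoidHom.mem_ker).2 (LinearMap.ext fun v => h v v.2 w hw)
  have h1 := (hermHom W).ker.card_mul_index
  rw [AddSubgroup.index_ker, AddMonoidHom.range_eq_top.2 (hermHom_surjective W), AddSubgroup.card_top] at h1
  have h2 : Nat.card (W →ₗ[F4] F4) = Nat.card W := by
    rw [Module.natCard_eq_pow_finrank (K := F4) (V := Module.Dual F4 W), Subspace.dual_finrank_eq,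
      ← Module.natCard_eq_pow_finrank]
  have h3 : Nat.card W ≤ Nat.card (hermHom W).ker :=
    Nat.card_le_card_of_injective (fun w : W => (⟨w, hle w.2⟩ : (hermHom W).ker))
      fun a b e => Subtype.ext (congrArg (fun x : (hermHom W).ker => (x : Fin 6 → F4)) e)
  have hV : Nat.card (Fin 6 → F4) = 4096 := by
    rw [Nat.card_eq_fintype_card, Fintype.card_fun, Fintype.card_fin, F4.card]; norm_num
  rw [hV, h2] at h1
  by_contra hgt
  have h4 := Nat.mul_le_mul (le_trans (Nat.succ_le_of_lt (Nat.lt_of_not_le hgt)) h3)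
    (Nat.succ_le_of_lt (Nat.lt_of_not_le hgt))
  omega

/-- At most 21 points are pairwise orthogonal. -/
theorem clique_le {S : Finset ℕ} (hlt : ∀ r ∈ S, r < 693) (hcom : ∀ r ∈ S, ∀ s ∈ S, com r s = true) :
    S.card ≤ 21 := by
  classical
  set W : Submodule F4 (Fin 6 → F4) := Submodule.span F4 ((fun r => vec (code r)) '' ↑S) with hW
  have hiso : ∀ v ∈ W, ∀ w ∈ W, Cfsg.hermForm 6 F4 2 v w = 0 := by
    intro v hv
    have hgen : ∀ s ∈ S, Cfsg.hermForm 6 F4 2 v (vec (code s)) = 0 := by
      intro s hs
      induction hv using Submodule.span_induction with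
      | mem x hx =>
        obtain ⟨r, hr, rfl⟩ := hx
        exact herm_of_com (hcom s hs r hr)
      | zero => simp [Cfsg.hermForm]
      | add x y _ _ ix iy =>
        simp only [Cfsg.hermForm] at ix iy
        simp only [Cfsg.hermForm, Pi.add_apply, add_mul, Finset.sum_add_distrib, ix, iy, add_zero]
      | smul c x _ ix =>
        simp only [Cfsg.hermForm] at ix
        simp only [Cfsg.hermForm, Pi.smul_apply, smul_eq_mul, mul_assoc, ← Finset.mul_sum, ix, mul_zero]
    intro w hw
    induction hw using Submodule.span_induction with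
    | mem x hx =>
      obtain ⟨s, hs, rfl⟩ := hx
      exact hgen s hs
    | zero => simp [Cfsg.hermForm]
    | add x y _ _ ix iy =>
      have hsq : ∀ x y : F4, (x + y) ^ 2 = x ^ 2 + y ^ 2 := by decide +kernel
      simp only [Cfsg.hermForm] at ix iy
      simp only [Cfsg.hermForm, Pi.add_apply, hsq, mul_add, Finset.sum_add_distrib, ix, iy, add_zero]
    | smul c x _ ix =>
      simp only [Cfsg.hermForm] at ix
      simp only [Cfsg.hermForm, Pi.smul_apply, smul_eq_mul, mul_pow]
      rw [Finset.sum_congr rfl (fun i _ => mul_left_comm (v i) (c ^ 2) (x i ^ 2)), ← Finset.mul_sum, ix, mul_zero]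
  let f : Option (↥S × F4ˣ) → W := fun o => o.elim 0 fun p =>
    ⟨(p.2 : F4) • vec (code p.1), W.smul_mem _ (Submodule.subset_span ⟨p.1, p.1.2, rfl⟩)⟩
  have hne : ∀ p : ↥S × F4ˣ, (p.2 : F4) • vec (code p.1) ≠ 0 := fun p e =>
    code_vec_ne (hlt _ p.1.2) ((smul_eq_zero.1 e).resolve_left p.2.ne_zero)
  have hf : Function.Injective f := by
    rintro (_ | ⟨⟨r, hr⟩, l⟩) (_ | ⟨⟨s, hs⟩, m⟩) e
    · rfl
    · exact absurd (congrArg Subtype.val e).symm (hne ⟨⟨s, hs⟩, m⟩)
    · exact absurd (congrArg Subtype.val e) (hne ⟨⟨r, hr⟩, l⟩)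
    · have e' : (l : F4) • vec (code r) = (m : F4) • vec (code s) := congrArg Subtype.val e
      have hrs : r = s := point_unique (hlt r hr) (hlt s hs) (l := (l : F4)⁻¹ * (m : F4))
        (mul_ne_zero (inv_ne_zero l.ne_zero) m.ne_zero)
        (by rw [← smul_smul, ← e', inv_smul_smul₀ l.ne_zero])
      subst hrs
      have : (l : F4) = m := by
        have := sub_eq_zero.2 e'
        rw [← sub_smul, smul_eq_zero] at this
        exact sub_eq_zero.1 (this.resolve_right (code_vec_ne (hlt r hr)))
      rw [Units.ext this]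
  have h := (Nat.card_le_card_of_injective f hf).trans (card_isotropic_le W hiso)
  rw [Nat.card_eq_fintype_card, Fintype.card_option, Fintype.card_prod, Fintype.card_coe,
    Fintype.card_units, F4.card] at h
  omega

end CfsgLib.Recog.FiM22
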