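import Cfsg.Agent.Lib.Recog.FiM22.Identify
import Cfsg.Agent.Lib.Recog.FiM22.Clique
import Cfsg.Prelude.Def_CaseTheorems

set_option autoImplicit false
set_option maxRecDepth 20000

/-!
Properties of the groups of type M(22) read off the identification with Fi22 (owner: helper13).
-/

namespace CfsgLib.Recog.FiM22

open Cfsg CfsgLib.ThreeTrans CfsgLib.Recog.SporBound

universe u

variable {G : Type u} [Group G] [Finite G] {D : Set G}

theorem card_group (hD : IsThreeTranspositionGroup D) (hprim : IsPrimitiveUnderConj D) (ht : IsOfTypeM22 G D) :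
    Nat.card G = 64561751654400 := by
  obtain ⟨e, -⟩ := identify_of_type hD hprim ht
  rw [← Nat.card_congr e.toEquiv, Fi22Group.card_and_faithful.1]

theorem card_class (hD : IsThreeTranspositionGroup D) (hprim : IsPrimitiveUnderConj D) (ht : IsOfTypeM22 G D) :
    D.ncard = 3510 := by
  obtain ⟨e, he⟩ := identify_of_type hD hprim ht
  rw [← he, Set.ncard_image_of_injective _ e.injective, ← Nat.card_coe_set_eq]
  exact Fi22U6.realization.2.1

theorem simple_of_type (hD : IsThreeTranspositionGroup D) (hprim : IsPrimitiveUnderConj D) (ht : IsOfTypeM22 G D) :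
    IsSimpleGroup G := by
  obtain ⟨e, -⟩ := identify_of_type hD hprim ht
  haveI := Fi22Group.isSimple
  haveI : Nontrivial G := e.symm.toEquiv.nontrivial
  exact IsSimpleGroup.isSimpleGroup_of_surjective e.toMonoidHom e.surjective

omit [Finite G] in
theorem conj_nbrs (hD : IsThreeTranspositionGroup D) (g a : G) :
    (MulAut.conj g).toMonoidHom '' nbrs D a = nbrs D (g * a * g⁻¹) := by
  ext y
  constructor
  · rintro ⟨x, ⟨hx, hne, hc⟩, rfl⟩
    exact ⟨hD.2.1 g x hx, fun e => hne (mul_left_cancel (mul_right_cancel e)), commute_conj_iff.2 hc⟩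
  · rintro ⟨hy, hne, hc⟩
    refine ⟨g⁻¹ * y * g, ⟨by simpa using hD.2.1 g⁻¹ y hy, fun e => hne ?_, ?_⟩, conj_cancel g y⟩
    · rw [← e, conj_cancel]
    · rw [← commute_conj_iff (g := g), conj_cancel]; exact hc

/-- Every member has the data of the definition. -/
theorem exists_base_at (hD : IsThreeTranspositionGroup D) (hprim : IsPrimitiveUnderConj D) (ht : IsOfTypeM22 G D)
    {d : G} (hd : d ∈ D) : Nonempty (Base D d) := by
  obtain ⟨a, ⟨B⟩⟩ := exists_base hD hprim ht
  obtain ⟨g, rfl⟩ := hprim.1 a B.mem d hd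
  have hmap : (Subgroup.closure (nbrs D a)).map (MulAut.conj g).toMonoidHom =
      Subgroup.closure (nbrs D (g * a * g⁻¹)) := by
    rw [MonoidHom.map_closure, conj_nbrs hD]
  let ι : ↥(Subgroup.closure (nbrs D a)) ≃* ↥(Subgroup.closure (nbrs D (g * a * g⁻¹))) :=
    ((Subgroup.closure (nbrs D a)).equivMapOfInjective _ (MulAut.conj g).injective).trans
      (MulEquiv.subgroupCongr hmap)
  refine ⟨{
    grp := hD
    prim := hprim
    centre := B.centre
    mem := hd
    proj := B.proj.comp ι.symm.toMonoidHom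
    surj := B.surj.comp ι.symm.surjective
    kerLe := fun x hx => Subgroup.mem_center_iff.2 fun y => ι.symm.injective ?_ }⟩
  rw [map_mul, map_mul]
  exact Subgroup.mem_center_iff.1 (B.kerLe (MonoidHom.mem_ker.2 (MonoidHom.mem_ker.1 hx))) _

theorem psu_simple : IsSimpleGroup Q6 :=
  CfsgLib.Classical.Herm.isSimpleGroup_PSU' Fi22U6.F4.card 6 (by norm_num) (by norm_num)

theorem psu_nonabelian : ¬ ∀ x y : Q6, x * y = y * x := fun h => by
  haveI := psu_simple
  letI : CommGroup Q6 := { (inferInstance : Group Q6) with mul_comm := h }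
  have hp := IsSimpleGroup.prime_card (α := Q6)
  rw [Fi22U6.card_psu] at hp
  norm_num at hp

theorem psu_commutator : commutator Q6 = ⊤ := by
  haveI := psu_simple
  rcases (inferInstance : (commutator Q6).Normal).eq_bot_or_eq_top with h | h
  · exact absurd (fun x y => commutatorElement_eq_one_iff_mul_comm.1 (Subgroup.mem_bot.1
      (h ▸ Subgroup.commutator_mem_commutator (Subgroup.mem_top x) (Subgroup.mem_top y)))) psu_nonabelian
  · exact h

/-- In a nonsplit double cover a supplement to the centre is everything. -/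
theorem supplement_eq_top {H K : Type*} [Group H] [Group K] (h : IsNonsplitDoubleCover H K) {P : Subgroup H}
    (hP : P ⊔ Subgroup.center H = ⊤) : P = ⊤ := by
  by_cases hz : Subgroup.center H ≤ P
  · rwa [sup_eq_left.2 hz] at hP
  exfalso
  refine h.2.2 P (Subgroup.isComplement'_of_disjoint_and_mul_eq_univ ?_ ?_)
  · rw [Subgroup.disjoint_def]
    intro z hzc hzP
    by_contra hne
    refine hz fun y hy => ?_
    obtain ⟨w, -, hw⟩ := (Nat.card_eq_two_iff' (1 : Subgroup.center H)).1 h.1
    rcases eq_or_ne y 1 with rfl | hy1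
    · exact one_mem P
    have e1 := hw ⟨z, hzc⟩ fun e => hne (congrArg Subtype.val e)
    have e2 := hw ⟨y, hy⟩ fun e => hy1 (congrArg Subtype.val e)
    rw [show y = z from congrArg Subtype.val (e2.trans e1.symm)]
    exact hzP
  · rw [← Subgroup.normal_mul, sup_comm, hP, Subgroup.coe_top]

namespace Base

variable {a : G} (B : Base D a)
include B

theorem double_cover : IsNonsplitDoubleCover (Subgroup.centralizer ({a} : Set G)) Q6 := by
  obtain ⟨e, ea, -⟩ := identify B
  have hmap : (Subgroup.centralizer ({Fi22Group.a 0} : Set Spor.Fi22)).map e.toMonoidHom =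
      Subgroup.centralizer ({a} : Set G) := by
    ext z
    rw [Subgroup.mem_map_equiv, Subgroup.mem_centralizer_singleton_iff, Subgroup.mem_centralizer_singleton_iff,
      ← e.symm.injective.eq_iff (a := z * a), map_mul, map_mul, ← ea, MulEquiv.symm_apply_apply]
  have := Fi22Group.finite_fi22
  exact Fi22U6.double_cover_of_equiv
    (((Subgroup.centralizer _).equivMapOfInjective _ e.injective).trans (MulEquiv.subgroupCongr hmap))
    (Fi22U6.realization.2.2 _ mem_conjugatesOf_self)

omit [Finite G] in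
theorem closure_le_centralizer : Subgroup.closure (nbrs D a) ≤ Subgroup.centralizer ({a} : Set G) :=
  (Subgroup.closure_le _).2 fun _ hy => Subgroup.mem_centralizer_singleton_iff.2 hy.2.2.eq.symm

theorem centralizer_eq : Subgroup.closure (nbrs D a) = Subgroup.centralizer ({a} : Set G) := by
  set C := Subgroup.centralizer ({a} : Set G)
  set H := Subgroup.closure (nbrs D a) with hH
  have hdc := B.double_cover
  obtain ⟨q⟩ := hdc.2.1
  have hle : H ≤ C := B.closure_le_centralizer
  haveI hn : (H.subgroupOf C).Normal := ⟨fun x hx c => by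
    rw [Subgroup.mem_subgroupOf] at hx ⊢
    have hc : (c : G) * a * (c : G)⁻¹ = a := by
      rw [Subgroup.mem_centralizer_singleton_iff.1 c.2, mul_inv_cancel_right]
    have : (MulAut.conj (c : G)).toMonoidHom '' nbrs D a = nbrs D a := by rw [conj_nbrs B.grp, hc]
    have hm : H.map (MulAut.conj (c : G)).toMonoidHom = H := by rw [hH, MonoidHom.map_closure, this]
    rw [← hm]
    exact ⟨_, hx, rfl⟩⟩
  let p : C →* Q6 := q.toMonoidHom.comp (QuotientGroup.mk' _)
  have hp : Function.Surjective p := q.surjective.comp (QuotientGroup.mk'_surjective _)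
  have hker : p.ker = Subgroup.center C := by
    ext x
    rw [MonoidHom.mem_ker]
    exact (q.map_eq_one_iff).trans (QuotientGroup.eq_one_iff x)
  haveI := psu_simple
  have htop : (H.subgroupOf C).map p = ⊤ := by
    refine ((hn.map p hp).eq_bot_or_eq_top).resolve_left fun h => psu_nonabelian ?_
    intro x y
    obtain ⟨⟨u, hu⟩, rfl⟩ := B.surj x
    obtain ⟨⟨v, hv⟩, rfl⟩ := B.surj y
    have hz : (⟨u, hle hu⟩ : C) ∈ Subgroup.center C := hker ▸ MonoidHom.mem_ker.2 (Subgroup.mem_bot.1
      (h ▸ Subgroup.mem_map_of_mem p (Subgroup.mem_subgroupOf.2 hu : (⟨u, hle hu⟩ : C) ∈ H.subgroupOf C)))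
    have hc := congrArg Subtype.val (Subgroup.mem_center_iff.1 hz ⟨v, hle hv⟩)
    rw [← map_mul, ← map_mul, show (⟨u, hu⟩ : ↥H) * ⟨v, hv⟩ = ⟨v, hv⟩ * ⟨u, hu⟩ from Subtype.ext hc.symm]
  have hsup : H.subgroupOf C = ⊤ := supplement_eq_top hdc (by
    rw [← hker, ← Subgroup.comap_map_eq, htop, Subgroup.comap_top])
  exact le_antisymm hle (Subgroup.subgroupOf_eq_top.1 hsup)

theorem mem_closure : a ∈ Subgroup.closure (nbrs D a) := by
  rw [B.centralizer_eq]; exact Subgroup.mem_centralizer_singleton_iff.2 rfl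

theorem quasisimple : IsQuasisimple ↥(Subgroup.closure (nbrs D a)) ∧
    Subgroup.center ↥(Subgroup.closure (nbrs D a)) =
      (Subgroup.zpowers a).subgroupOf (Subgroup.closure (nbrs D a)) := by
  rw [B.centralizer_eq]
  set C := Subgroup.centralizer ({a} : Set G)
  have hdc : IsNonsplitDoubleCover C Q6 := B.double_cover
  obtain ⟨q⟩ := hdc.2.1
  haveI := psu_simple
  haveI : Nontrivial (C ⧸ Subgroup.center C) := q.toEquiv.nontrivial
  have hsimple : IsSimpleGroup (C ⧸ Subgroup.center C) :=
    IsSimpleGroup.isSimpleGroup_of_surjective q.symm.toMonoidHom q.symm.surjective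
  have hperf : commutator C = ⊤ := by
    refine supplement_eq_top hdc ?_
    let p : C →* Q6 := q.toMonoidHom.comp (QuotientGroup.mk' _)
    have hp : Function.Surjective p := q.surjective.comp (QuotientGroup.mk'_surjective _)
    have hker : p.ker = Subgroup.center C := by
      ext x
      rw [MonoidHom.mem_ker]
      exact (q.map_eq_one_iff).trans (QuotientGroup.eq_one_iff x)
    rw [← hker, ← Subgroup.comap_map_eq, commutator_def, Subgroup.map_commutator,
      Subgroup.map_top_of_surjective p hp, ← commutator_def, psu_commutator, Subgroup.comap_top]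
  refine ⟨⟨⟨hperf⟩, hsimple⟩, ?_⟩
  have ha : a ∈ C := Subgroup.mem_centralizer_singleton_iff.2 rfl
  have haz : (⟨a, ha⟩ : C) ∈ Subgroup.center C := Subgroup.mem_center_iff.2 fun c =>
    Subtype.ext (Subgroup.mem_centralizer_singleton_iff.1 c.2)
  ext z
  rw [Subgroup.mem_subgroupOf]
  constructor
  · intro hz
    rcases eq_or_ne z 1 with rfl | hz1
    · exact one_mem _
    obtain ⟨w, -, hw⟩ := (Nat.card_eq_two_iff' (1 : Subgroup.center C)).1 hdc.1
    have e1 := hw ⟨z, hz⟩ fun e => hz1 (congrArg Subtype.val e)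
    have e2 := hw ⟨⟨a, ha⟩, haz⟩ fun e => by
      have h1 : a = 1 := congrArg (fun x : Subgroup.center C => ((x : C) : G)) e
      obtain ⟨f, hf, hne⟩ := exists_not_commute (class_of_primitive B.grp B.prim) B.prim.2.1 B.mem
      exact hne (h1 ▸ Commute.one_left f)
    rw [show (z : G) = a from congrArg (fun x : Subgroup.center C => ((x : C) : G)) (e1.trans e2.symm)]
    exact Subgroup.mem_zpowers a
  · intro hz
    obtain ⟨k, hk⟩ := hz
    have : z = (⟨a, ha⟩ : C) ^ k := Subtype.ext (by simpa using hk.symm)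
    rw [this]
    exact zpow_mem haz k

theorem clique_labels {E : Set G} (hE : E ⊆ nbrs D a) (hcomm : ∀ x ∈ E, ∀ y ∈ E, Commute x y) :
    E.ncard ≤ 21 := by
  classical
  obtain ⟨lab, L⟩ := B.exists_labelled
  choose! r hr hre using L.surj
  have hfin : E.Finite := Set.toFinite E
  have hinj : Set.InjOn r ↑hfin.toFinset := fun x hx y hy e => by
    rw [← hre x (hE (by simpa using hx)), ← hre y (hE (by simpa using hy)), e]
  rw [Set.ncard_eq_toFinset_card E hfin, ← Finset.card_image_of_injOn hinj]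
  refine clique_le (fun n hn => ?_) fun n hn m hm => ?_
  · obtain ⟨x, hx, rfl⟩ := Finset.mem_image.1 hn
    exact hr x (hE (by simpa using hx))
  · obtain ⟨x, hx, rfl⟩ := Finset.mem_image.1 hn
    obtain ⟨y, hy, rfl⟩ := Finset.mem_image.1 hm
    rw [Set.Finite.mem_toFinset] at hx hy
    rw [← L.commute_iff (hr x (hE hx)) (hr y (hE hy)), hre x (hE hx), hre y (hE hy)]
    exact hcomm x hx y hy

theorem exists_wide : ∃ E : Set G, E ⊆ D ∧ (∀ x ∈ E, ∀ y ∈ E, Commute x y) ∧ E.ncard = 22 := by
  classical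
  obtain ⟨lab, L⟩ := B.exists_labelled
  obtain ⟨S, hcard, hlt, hcom⟩ := exists_clique
  refine ⟨insert a (lab '' ↑S), ?_, ?_, ?_⟩
  · rintro x (rfl | ⟨r, hr, rfl⟩)
    exacts [B.mem, (L.mem r (hlt r hr)).1]
  · rintro x (rfl | ⟨r, hr, rfl⟩) y (rfl | ⟨s, hs, rfl⟩)
    exacts [Commute.refl _, (L.mem s (hlt s hs)).2.2, (L.mem r (hlt r hr)).2.2.symm,
      (L.commute_iff (hlt r hr) (hlt s hs)).2 (hcom r hr s hs)]
  · have hnot : a ∉ lab '' ↑S := fun ⟨r, hr, e⟩ => (L.mem r (hlt r hr)).2.1 e
    rw [Set.ncard_insert_of_notMem hnot (Set.toFinite _),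
      Set.InjOn.ncard_image (fun r hr s hs e => L.inj r (hlt r hr) s (hlt s hs) e), Set.ncard_coe_finset, hcard]

end Base

theorem width_of_type (hD : IsThreeTranspositionGroup D) (hprim : IsPrimitiveUnderConj D) (ht : IsOfTypeM22 G D) :
    commutingWidth D = 22 := by
  obtain ⟨a, ⟨B⟩⟩ := exists_base hD hprim ht
  obtain ⟨E, hED, hcomm, hE⟩ := B.exists_wide
  have hmem : 22 ∈ {n : ℕ | ∃ E : Set G, E ⊆ D ∧ E.Finite ∧ (∀ a ∈ E, ∀ b ∈ E, Commute a b) ∧ E.ncard = n} :=
    ⟨E, hED, Set.toFinite E, hcomm, hE⟩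
  have hle : ∀ n ∈ {n : ℕ | ∃ E : Set G, E ⊆ D ∧ E.Finite ∧ (∀ a ∈ E, ∀ b ∈ E, Commute a b) ∧ E.ncard = n},
      n ≤ 22 := by
    rintro n ⟨E', hED', hfin, hcomm', rfl⟩
    rcases E'.eq_empty_or_nonempty with rfl | ⟨d, hd⟩
    · simp
    obtain ⟨B'⟩ := exists_base_at hD hprim ht (hED' hd)
    have h := B'.clique_labels (E := E' \ {d}) (fun x hx => ⟨hED' hx.1, hx.2, hcomm' d hd x hx.1⟩)
      fun x hx y hy => hcomm' x hx.1 y hy.1
    rw [Set.ncard_sdiff_singleton_of_mem hd] at h
    omega
  exact le_antisymm (csSup_le ⟨_, hmem⟩ hle) (le_csSup ⟨22, hle⟩ hmem)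

end CfsgLib.Recog.FiM22
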