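import Cfsg.Agent.Lib.Recog.FiM22.Data
import Cfsg.Agent.Lib.Recog.SporBound.Fi22U6.FieldFour
import Cfsg.Prelude.Def_Classical

set_option autoImplicit false
set_option maxRecDepth 20000
set_option Elab.async false

/-!
Fast arithmetic on coded vectors of the unitary space of dimension six over four elements: products of
transvections on the 693 points (owner: helper13).
-/

namespace CfsgLib.Recog.FiM22

open CfsgLib.Recog.SporBound (Q)
open CfsgLib.Recog.SporBound.Fi22U6 (F4)
open CfsgLib.ThreeTrans.CosetIndex (forallFrom forallFrom_elim)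

/-- A coordinate of a code. -/
noncomputable def dig (c k : ℕ) : ℕ := Nat.land (Nat.shiftRight c (Nat.mul 2 k)) 3

/-- One term of the hermitian product. -/
noncomputable def hterm (x y k : ℕ) : ℕ :=
  Nat.land (Nat.shiftRight hTable (Nat.mul 2 (Nat.add (Nat.mul 4 (dig x k)) (dig y k)))) 3

/-- The hermitian product of two halves of three coordinates. -/
noncomputable def half (x y : ℕ) : ℕ := Nat.land (Nat.shiftRight halfTable (Nat.mul 2 (Nat.add (Nat.mul 64 x) y))) 3

/-- The hermitian product of two coded vectors. -/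
noncomputable def dot (x y : ℕ) : ℕ :=
  Nat.xor (half (Nat.land x 63) (Nat.land y 63))
    (half (Nat.land (Nat.shiftRight x 6) 63) (Nat.land (Nat.shiftRight y 6) 63))

/-- Multiplication of a coded vector by the generator of the field. -/
noncomputable def omc (v : ℕ) : ℕ :=
  Nat.lor (Nat.land (Nat.shiftRight v 1) 1365)
    (Nat.shiftLeft (Nat.land (Nat.xor v (Nat.shiftRight v 1)) 1365) 1)

/-- Multiplication of a coded vector by a field element. -/
noncomputable def scl (l v : ℕ) : ℕ :=
  cond (Nat.beq l 0) 0 (cond (Nat.beq l 1) v (cond (Nat.beq l 2) (omc v) (omc (omc v))))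

/-- The code of a point. -/
noncomputable def code (r : ℕ) : ℕ :=
  Nat.land (Nat.shiftRight (codeTree.get (Nat.shiftRight r 6)) (Nat.mul 16 (Nat.land r 63))) 65535

/-- The point of a code. -/
noncomputable def idx (c : ℕ) : ℕ :=
  Nat.land (Nat.shiftRight (idxTree.get (Nat.shiftRight c 6)) (Nat.mul 16 (Nat.land c 63))) 65535

/-- The point `s` moved by the transvection at the point `r`. -/
noncomputable def mul (r s : ℕ) : ℕ :=
  (fun k => cond (Nat.beq k 0) s (idx (Nat.xor (code s) (scl k (code r))))) (dot (code s) (code r))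

/-- The transvections at two points commute. -/
noncomputable def com (r s : ℕ) : Bool := Nat.beq (dot (code s) (code r)) 0

/-- A word of transvections acting on a point, the last one first. -/
noncomputable def app (w : List ℕ) (x : ℕ) : ℕ :=
  List.rec (motive := fun _ => ℕ) x (fun r _ ih => mul r ih) w

theorem app_nil (x : ℕ) : app [] x = x := rfl

theorem app_cons (r : ℕ) (w : List ℕ) (x : ℕ) : app (r :: w) x = mul r (app w x) := rfl

/-- The vector of a code. -/
noncomputable def vec (c : ℕ) : Fin 6 → F4 := fun i => F4.ofNat4 (dig c i)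

theorem dig_lt (c k : ℕ) : dig c k < 4 := by
  show Nat.land _ 3 < 4
  exact lt_of_le_of_lt Nat.and_le_right (by norm_num)

theorem ofNat4_xor_aux : (List.range 4).all (fun x => (List.range 4).all fun y =>
    decide (F4.ofNat4 (Nat.xor x y) = F4.ofNat4 x + F4.ofNat4 y) && decide (Nat.xor x y < 4) &&
      decide (F4.ofNat4 (Nat.land (Nat.shiftRight hTable (Nat.mul 2 (Nat.add (Nat.mul 4 x) y))) 3) =
        F4.ofNat4 x * F4.ofNat4 y ^ 2)) = true := by decide +kernel

theorem ofNat4_spec {x y : ℕ} (hx : x < 4) (hy : y < 4) :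
    F4.ofNat4 (Nat.xor x y) = F4.ofNat4 x + F4.ofNat4 y ∧ Nat.xor x y < 4 ∧
      F4.ofNat4 (Nat.land (Nat.shiftRight hTable (Nat.mul 2 (Nat.add (Nat.mul 4 x) y))) 3) =
        F4.ofNat4 x * F4.ofNat4 y ^ 2 := by
  have h := List.all_eq_true.1 (List.all_eq_true.1 ofNat4_xor_aux x (List.mem_range.2 hx)) y (List.mem_range.2 hy)
  simpa [Bool.and_eq_true, and_assoc] using h

theorem dig_xor (a b k : ℕ) : dig (Nat.xor a b) k = Nat.xor (dig a k) (dig b k) := by
  show ((a ^^^ b) >>> (2 * k)) &&& 3 = ((a >>> (2 * k)) &&& 3) ^^^ ((b >>> (2 * k)) &&& 3)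
  rw [Nat.shiftRight_xor_distrib, Nat.and_xor_distrib_right]

theorem vec_xor (a b : ℕ) : vec (Nat.xor a b) = vec a + vec b := by
  funext i
  show F4.ofNat4 (dig (Nat.xor a b) i) = F4.ofNat4 (dig a i) + F4.ofNat4 (dig b i)
  rw [dig_xor, (ofNat4_spec (dig_lt a i) (dig_lt b i)).1]

theorem half_ok : forallFrom (fun x => (List.range 64).all fun y =>
    Nat.beq (half x y) (Nat.xor (hterm x y 0) (Nat.xor (hterm x y 1) (hterm x y 2)))) 0 64 = true := by
  decide +kernel

theorem dig_low (c : ℕ) : ∀ k < 3, dig (Nat.land c 63) k = dig c k ∧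
    dig (Nat.land (Nat.shiftRight c 6) 63) k = dig c (k + 3) := by
  intro k hk
  constructor
  · show ((c &&& 63) >>> (2 * k)) &&& 3 = (c >>> (2 * k)) &&& 3
    rw [Nat.shiftRight_and_distrib, Nat.and_assoc]
    interval_cases k <;> rfl
  · show (((c >>> 6) &&& 63) >>> (2 * k)) &&& 3 = (c >>> (2 * (k + 3))) &&& 3
    rw [Nat.shiftRight_and_distrib, Nat.and_assoc, ← Nat.shiftRight_add, show 6 + 2 * k = 2 * (k + 3) by ring]
    interval_cases k <;> rfl

theorem dot_eq (x y : ℕ) : dot x y = Nat.xor (hterm x y 0) (Nat.xor (hterm x y 1) (Nat.xor (hterm x y 2)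
    (Nat.xor (hterm x y 3) (Nat.xor (hterm x y 4) (hterm x y 5))))) := by
  have h : ∀ a b, a < 64 → b < 64 →
      half a b = Nat.xor (hterm a b 0) (Nat.xor (hterm a b 1) (hterm a b 2)) := fun a b ha hb =>
    Nat.eq_of_beq_eq_true (List.all_eq_true.1 (forallFrom_elim half_ok (Nat.zero_le a) (by omega)) b
      (List.mem_range.2 hb))
  have l6 : ∀ z, Nat.land z 63 < 64 := fun z => lt_of_le_of_lt Nat.and_le_right (by norm_num)
  rw [show dot x y = Nat.xor (half (Nat.land x 63) (Nat.land y 63))
    (half (Nat.land (Nat.shiftRight x 6) 63) (Nat.land (Nat.shiftRight y 6) 63)) from rfl,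
    h _ _ (l6 _) (l6 _), h _ _ (l6 _) (l6 _)]
  simp only [hterm, (dig_low x 0 (by norm_num)).1, (dig_low x 1 (by norm_num)).1, (dig_low x 2 (by norm_num)).1,
    (dig_low y 0 (by norm_num)).1, (dig_low y 1 (by norm_num)).1, (dig_low y 2 (by norm_num)).1,
    (dig_low x 0 (by norm_num)).2, (dig_low x 1 (by norm_num)).2, (dig_low x 2 (by norm_num)).2,
    (dig_low y 0 (by norm_num)).2, (dig_low y 1 (by norm_num)).2, (dig_low y 2 (by norm_num)).2]
  exact (Nat.xor_assoc _ _ _).trans (congrArg (Nat.xor _) (Nat.xor_assoc _ _ _))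

theorem dot_spec (x y : ℕ) :
    dot x y < 4 ∧ F4.ofNat4 (dot x y) = Cfsg.hermForm 6 F4 2 (vec x) (vec y) := by
  have hl : ∀ k, hterm x y k < 4 := fun k => by
    show Nat.land _ 3 < 4
    exact lt_of_le_of_lt Nat.and_le_right (by norm_num)
  have ht : ∀ k, F4.ofNat4 (hterm x y k) = F4.ofNat4 (dig x k) * F4.ofNat4 (dig y k) ^ 2 :=
    fun k => (ofNat4_spec (dig_lt x k) (dig_lt y k)).2.2
  have h45 := ofNat4_spec (hl 4) (hl 5)
  have h35 := ofNat4_spec (hl 3) h45.2.1
  have h25 := ofNat4_spec (hl 2) h35.2.1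
  have h15 := ofNat4_spec (hl 1) h25.2.1
  have h05 := ofNat4_spec (hl 0) h15.2.1
  refine ⟨by rw [dot_eq]; exact h05.2.1, ?_⟩
  rw [dot_eq, h05.1, h15.1, h25.1, h35.1,
    h45.1, ht, ht, ht, ht, ht, ht, Cfsg.hermForm, Fin.sum_univ_six]
  simp only [vec, add_assoc]
  rfl

/-- The check of the scalar multiples of a code. -/
noncomputable def sclOK (c : ℕ) : Bool :=
  (List.range 4).all fun l => Nat.blt (scl l c) 4096 && (List.range 6).all fun k =>
    decide (F4.ofNat4 (dig (scl l c) k) = F4.ofNat4 l * F4.ofNat4 (dig c k))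

theorem scl_ok0 : forallFrom sclOK 0 512 = true := by decide +kernel

theorem scl_ok1 : forallFrom sclOK 512 512 = true := by decide +kernel

theorem scl_ok2 : forallFrom sclOK 1024 512 = true := by decide +kernel

theorem scl_ok3 : forallFrom sclOK 1536 512 = true := by decide +kernel

theorem scl_ok4 : forallFrom sclOK 2048 512 = true := by decide +kernel

theorem scl_ok5 : forallFrom sclOK 2560 512 = true := by decide +kernel

theorem scl_ok6 : forallFrom sclOK 3072 512 = true := by decide +kernel

theorem scl_ok7 : forallFrom sclOK 3584 512 = true := by decide +kernel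

theorem scl_ok : forallFrom sclOK 0 4096 = true :=
  (SporBound.forallFrom_cat (SporBound.forallFrom_cat (SporBound.forallFrom_cat (SporBound.forallFrom_cat (SporBound.forallFrom_cat (SporBound.forallFrom_cat (SporBound.forallFrom_cat scl_ok0 scl_ok1 (l := 1024) (by decide) (by decide)) scl_ok2 (l := 1536) (by decide) (by decide)) scl_ok3 (l := 2048) (by decide) (by decide)) scl_ok4 (l := 2560) (by decide) (by decide)) scl_ok5 (l := 3072) (by decide) (by decide)) scl_ok6 (l := 3584) (by decide) (by decide)) scl_ok7 (l := 4096) (by decide) (by decide))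

theorem scl_spec {l c : ℕ} (hl : l < 4) (hc : c < 4096) :
    scl l c < 4096 ∧ vec (scl l c) = F4.ofNat4 l • vec c := by
  have h := forallFrom_elim scl_ok (Nat.zero_le c) (by omega)
  have h2 := Bool.and_eq_true_iff.1 (List.all_eq_true.1 h l (List.mem_range.2 hl))
  refine ⟨by simpa using h2.1, funext fun i => ?_⟩
  exact of_decide_eq_true (List.all_eq_true.1 h2.2 (i : ℕ) (List.mem_range.2 i.2))

/-- The check of a point. -/
noncomputable def pointOK (r : ℕ) : Bool :=
  Nat.blt (code r) 4096 && (!(Nat.beq (code r) 0) && (Nat.beq (dot (code r) (code r)) 0 &&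
    ([1, 2, 3].all fun l => Nat.beq (idx (scl l (code r))) r)))

/-- The check of a code. -/
noncomputable def codeOK (c : ℕ) : Bool :=
  Nat.beq c 0 || !(Nat.beq (dot c c) 0) ||
    (Nat.blt (idx c) 693 && [1, 2, 3].any fun l => Nat.beq (scl l (code (idx c))) c)

theorem point_ok : forallFrom pointOK 0 693 = true := by decide +kernel

theorem code_ok0 : forallFrom codeOK 0 512 = true := by decide +kernel

theorem code_ok1 : forallFrom codeOK 512 512 = true := by decide +kernel

theorem code_ok2 : forallFrom codeOK 1024 512 = true := by decide +kernel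

theorem code_ok3 : forallFrom codeOK 1536 512 = true := by decide +kernel

theorem code_ok4 : forallFrom codeOK 2048 512 = true := by decide +kernel

theorem code_ok5 : forallFrom codeOK 2560 512 = true := by decide +kernel

theorem code_ok6 : forallFrom codeOK 3072 512 = true := by decide +kernel

theorem code_ok7 : forallFrom codeOK 3584 512 = true := by decide +kernel

theorem code_ok : forallFrom codeOK 0 4096 = true :=
  (SporBound.forallFrom_cat (SporBound.forallFrom_cat (SporBound.forallFrom_cat (SporBound.forallFrom_cat (SporBound.forallFrom_cat (SporBound.forallFrom_cat (SporBound.forallFrom_cat code_ok0 code_ok1 (l := 1024) (by decide) (by decide)) code_ok2 (l := 1536) (by decide) (by decide)) code_ok3 (l := 2048) (by decide) (by decide)) code_ok4 (l := 2560) (by decide) (by decide)) code_ok5 (l := 3072) (by decide) (by decide)) code_ok6 (l := 3584) (by decide) (by decide)) code_ok7 (l := 4096) (by decide) (by decide))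

theorem code_spec {r : ℕ} (hr : r < 693) : code r < 4096 ∧ code r ≠ 0 ∧ dot (code r) (code r) = 0 ∧
    ∀ l, 0 < l → l < 4 → idx (scl l (code r)) = r := by
  have h := forallFrom_elim point_ok (Nat.zero_le r) (by omega)
  simp only [pointOK, Bool.and_eq_true, Nat.beq_eq, List.all_cons, List.all_nil, Bool.and_true] at h
  refine ⟨by simpa using h.1, fun e => ?_, h.2.2.1, fun l h0 h4 => ?_⟩
  · simp [e] at h
  · obtain ⟨h1, h2, h3⟩ := h.2.2.2
    interval_cases l
    exacts [h1, h2, h3]

theorem idx_spec {c : ℕ} (hc : c < 4096) (h0 : c ≠ 0) (hi : dot c c = 0) :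
    idx c < 693 ∧ ∃ l, 0 < l ∧ l < 4 ∧ scl l (code (idx c)) = c := by
  have h := forallFrom_elim code_ok (Nat.zero_le c) (by omega)
  have e1 : Nat.beq c 0 = false := Bool.eq_false_iff.2 fun e => h0 (Nat.eq_of_beq_eq_true e)
  simp only [codeOK, e1, hi, Nat.beq_refl, Bool.false_or, Bool.not_true, Bool.and_eq_true,
    List.any_cons, List.any_nil, Bool.or_false, Bool.or_eq_true, Nat.beq_eq] at h
  refine ⟨by simpa using h.1, ?_⟩
  rcases h.2 with e | e | e
  exacts [⟨1, by omega, by omega, e⟩, ⟨2, by omega, by omega, e⟩, ⟨3, by omega, by omega, e⟩]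

end CfsgLib.Recog.FiM22
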