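import Cfsg.Agent.Lib.Recog.FiM22.Rows

set_option autoImplicit false
set_option maxRecDepth 20000

/-!
A checker for the classification of the sets of points that arise from the members commuting with two
noncommuting transpositions (owner: helper13).
-/

namespace CfsgLib.Recog.FiM22

/-- The fixed data of the classification. -/
structure Std where
  /-- five generators of the standard set -/
  g : List ℕ
  /-- derivations of the standard set from the generators -/
  der : List (ℕ × ℕ × ℕ)
  /-- the standard set -/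
  s : List ℕ
  /-- for each member, a word in members carrying the first generator to it -/
  move : List (List ℕ)
  /-- the target set -/
  p0 : List ℕ
  /-- for each generating point, a word carrying it to the first point -/
  toZero : List (List ℕ)
  /-- the standard set in 16-bit fields -/
  packed : ℕ

/-- A node of a search: a prefix and, for each option, a word carrying it to a representative. -/
structure Node where
  /-- the prefix -/
  pre : List ℕ
  /-- option, word, representative -/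
  ent : List (ℕ × List ℕ × ℕ)

/-- A leaf of the second search. -/
structure Leaf where
  /-- the images of the generators -/
  pre : List ℕ
  /-- the images of the standard set -/
  t : List ℕ
  /-- derivations -/
  d : List (ℕ × ℕ × ℕ)
  /-- the first point, the two local sets and the derived members, in 16-bit fields -/
  seq : ℕ
  /-- positions of too many neighbours of the member at the position `y` -/
  nb : List ℕ
  /-- position of that member -/
  y : ℕ
  /-- word of the final automorphism -/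
  w : List ℕ
  /-- power of the diagonal automorphism, applied first -/
  k : ℕ
  /-- for each member of the target, a position going to it -/
  pos : List ℕ

/-- A leaf of the first search with the second search below it. -/
structure Stage where
  /-- the images of the generators -/
  pre : List ℕ
  /-- the images of the standard set -/
  s1 : List ℕ
  /-- the same in 16-bit fields -/
  packed : ℕ
  /-- nodes of the second search -/
  nodes : List Node
  /-- leaves of the second search -/
  leaves : List Leaf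

/-- Membership as a boolean. -/
noncomputable def memb (x : ℕ) (l : List ℕ) : Bool :=
  List.rec (motive := fun _ => Bool) false (fun y _ ih => cond (Nat.beq x y) true ih) l

/-- Equality of lists as a boolean. -/
noncomputable def leq (a b : List ℕ) : Bool := decide (a = b)

/-- No repetition, as a boolean. -/
noncomputable def nodupB (l : List ℕ) : Bool :=
  List.rec (motive := fun _ => Bool) true (fun y ys ih => !(memb y ys) && ih) l

/-- An entry of a list held in 16-bit fields. -/
noncomputable def getP (p i : ℕ) : ℕ := Nat.land (Nat.shiftRight p (Nat.mul 16 i)) 65535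

/-- A field array begins with a list at an offset. -/
noncomputable def fieldsEq (p off : ℕ) (l : List ℕ) : Bool :=
  (List.range l.length).all fun i => Nat.beq (getP p (Nat.add off i)) (l.getD i 0)

/-- The derivations give the positions from `n` on, in order. -/
noncomputable def derKeys (d : List (ℕ × ℕ × ℕ)) (n : ℕ) : Bool :=
  decide (d.map (·.2.2) = List.range' n d.length)

/-- Each derivation gives a product of two earlier entries. -/
noncomputable def derOK (d : List (ℕ × ℕ × ℕ)) (p off : ℕ) : Bool :=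
  d.all fun e => Nat.blt e.1 e.2.2 && (Nat.blt e.2.1 e.2.2 &&
    Nat.beq (mul (getP p (Nat.add off e.1)) (getP p (Nat.add off e.2.1))) (getP p (Nat.add off e.2.2)))

/-- Commuting with and different from. -/
noncomputable def adj (x y : ℕ) : Bool := !(Nat.beq x y) && com x y

/-- The pattern of a candidate against a prefix. -/
noncomputable def patOK (g pre : List ℕ) (i z : ℕ) : Bool :=
  (List.range pre.length).all fun j =>
    !(Nat.beq z (pre.getD j 0)) && (com z (pre.getD j 0) == com (g.getD i 0) (g.getD j 0))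

/-- A word whose letters fix a prefix. -/
noncomputable def fixes (pre w : List ℕ) : Bool :=
  w.all fun r => Nat.blt r 693 && pre.all fun p => com r p

/-- A node is covered: every option has a word to a representative which is the next node or a leaf. -/
noncomputable def nodeOK (g : List ℕ) (base : ℕ → List ℕ) (allowed : ℕ → Bool) (nodes : List (List ℕ))
    (N : Node) : Bool :=
  Nat.blt N.pre.length 5 && ((base N.pre.length).filter (patOK g N.pre N.pre.length)).all fun z =>
    N.ent.any fun e => Nat.beq e.1 z && (e.2.1.all allowed && (fixes N.pre e.2.1 &&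
      (Nat.beq (app e.2.1 z) e.2.2 && nodes.any (leq (N.pre ++ [e.2.2])))))

/-- The prefixes of the nodes and leaves. -/
def keys (nodes : List Node) (leaves : List (List ℕ)) : List (List ℕ) := nodes.map (·.pre) ++ leaves

/-- The options of the first search. -/
noncomputable def baseOne (_ : ℕ) : List ℕ := (List.range 693).filter fun z => !(Nat.beq z 0) && com 0 z

/-- The options of the second search. -/
noncomputable def baseTwo (g s1 : List ℕ) (i : ℕ) : List ℕ :=
  cond (com (g.getD 0 0) (g.getD i 0)) (s1.filter (adj (s1.getD 0 0)))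
    ((List.range 693).filter fun z => adj (s1.getD 0 0) z && !(com 0 z))

/-- A power of the diagonal automorphism. -/
noncomputable def sigPow (k x : ℕ) : ℕ := Nat.rec (motive := fun _ => ℕ) x (fun _ ih => sig ih) k

/-- Too many neighbours of one member. -/
noncomputable def degOK (L : Leaf) : Bool :=
  Nat.blt L.y (91 + L.d.length) && (Nat.beq L.nb.length 46 && ((L.nb.all fun i => Nat.blt i (91 + L.d.length)) &&
    (nodupB (L.nb.map (getP L.seq)) && L.nb.all fun i => adj (getP L.seq L.y) (getP L.seq i))))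

/-- The target is reached. -/
noncomputable def goodOK (St : Std) (L : Leaf) : Bool :=
  (L.w.all fun r => Nat.blt r 693) && (Nat.blt L.k 3 && (List.range St.p0.length).all fun j =>
    Nat.blt (L.pos.getD j 0) (91 + L.d.length) &&
      Nat.beq (app L.w (sigPow L.k (getP L.seq (L.pos.getD j 0)))) (St.p0.getD j 0))

/-- The images of the standard set are the given ones. -/
noncomputable def imageOK (St : Std) (pre t : List ℕ) (p off : ℕ) : Bool :=
  leq (t.take 5) pre && (Nat.beq t.length 45 && (fieldsEq p off t && derOK St.der p off))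

/-- A leaf of the second search is settled. -/
noncomputable def leafOK (St : Std) (s1 : List ℕ) (L : Leaf) : Bool :=
  Nat.beq L.pre.length 5 && (imageOK St L.pre L.t L.seq 46 &&
    (!(nodupB L.t) || L.t.any (fun z => !(adj (s1.getD 0 0) z) || (adj 0 z && !(memb z s1))) ||
      (Nat.beq (getP L.seq 0) 0 && (fieldsEq L.seq 1 s1 && (derKeys L.d 91 && (derOK L.d L.seq 0 &&
        (degOK L || goodOK St L)))))))

/-- A leaf of the first search is settled. -/
noncomputable def stageOK (St : Std) (S : Stage) : Bool :=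
  Nat.beq S.pre.length 5 && (imageOK St S.pre S.s1 S.packed 0 && (!(nodupB S.s1) ||
    (((keys S.nodes []).any (leq [0]) &&
      S.nodes.all (nodeOK St.g (baseTwo St.g S.s1) (fun r => memb r S.s1 && com r (S.s1.getD 0 0))
        (keys S.nodes (S.leaves.map (·.pre))))) && S.leaves.all (leafOK St S.s1))))

/-- The standard data is consistent. -/
noncomputable def stdOK (St : Std) : Bool :=
  Nat.beq St.g.length 5 && (nodupB St.g && ((derKeys St.der 5 && Nat.beq St.der.length 40 && imageOK St St.g St.s St.packed 0) && (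
    nodupB St.s && (Nat.beq St.s.length 45 && (St.s.all (fun z => Nat.blt z 693) &&
    (St.s.all (fun x => St.s.all fun y => memb (mul x y) St.s) &&
    ((List.range 45).all (fun i => ((St.move.getD i []).all fun r => memb r St.s) &&
        Nat.beq (app (St.move.getD i []) (St.g.getD 0 0)) (St.s.getD i 0)) &&
    (nodupB St.p0 && (St.p0.all (fun p => Nat.blt p 693 && Nat.ble 45 (St.p0.filter (adj p)).length) &&
    ((List.range 693).all (fun r => memb r St.p0 || St.p0.any fun p => com p r) &&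
    (List.range 11).all fun j => ((St.toZero.getD j []).all fun r => Nat.blt r 693) &&
      Nat.beq (app (St.toZero.getD j []) (gensL.getD j 0)) 0))))))))))

theorem memb_iff {x : ℕ} : ∀ {l : List ℕ}, memb x l = true ↔ x ∈ l
  | [] => by simp [memb]
  | y :: ys => by
    show cond (Nat.beq x y) true (memb x ys) = true ↔ _
    cases h : Nat.beq x y with
    | true => simp [Nat.eq_of_beq_eq_true h]
    | false =>
      have : x ≠ y := fun e => by simp [e] at h
      simp [memb_iff, this]

theorem nodupB_iff : ∀ {l : List ℕ}, nodupB l = true ↔ l.Nodup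
  | [] => by simp [nodupB]
  | y :: ys => by
    show (!(memb y ys) && nodupB ys) = true ↔ _
    rw [Bool.and_eq_true, nodupB_iff, List.nodup_cons, Bool.not_eq_true', ← Bool.not_eq_true, memb_iff]

theorem adj_iff {x y : ℕ} : adj x y = true ↔ x ≠ y ∧ com x y = true := by
  show (!(Nat.beq x y) && com x y) = true ↔ _
  rw [Bool.and_eq_true, Bool.not_eq_true']
  exact and_congr_left fun _ => ⟨fun h e => by simp [e] at h,
    fun h => Bool.eq_false_iff.2 fun e => h (Nat.eq_of_beq_eq_true e)⟩

theorem adj_zero {z : ℕ} (h : z ≠ 0) (hc : com 0 z = true) : (!(Nat.beq z 0) && com 0 z) = true := by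
  rw [hc, Bool.and_true, Bool.not_eq_true']
  exact Bool.eq_false_iff.2 fun e => h (Nat.eq_of_beq_eq_true e)

theorem fieldsEq_iff {p off : ℕ} {l : List ℕ} (h : fieldsEq p off l = true) {i : ℕ} (hi : i < l.length) :
    getP p (off + i) = l.getD i 0 :=
  Nat.eq_of_beq_eq_true (List.all_eq_true.1 h i (List.mem_range.2 hi))

theorem derKeys_cover {d : List (ℕ × ℕ × ℕ)} {n : ℕ} (h : derKeys d n = true) {k : ℕ} (h1 : n ≤ k)
    (h2 : k < n + d.length) : ∃ e ∈ d, e.2.2 = k := by
  have hm : k ∈ d.map (·.2.2) := by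
    rw [of_decide_eq_true h, List.mem_range']
    exact ⟨k - n, by omega, by omega⟩
  exact List.mem_map.1 hm

theorem derOK_spec {d : List (ℕ × ℕ × ℕ)} {p off : ℕ} (h : derOK d p off = true) {e : ℕ × ℕ × ℕ} (he : e ∈ d) :
    e.1 < e.2.2 ∧ e.2.1 < e.2.2 ∧ mul (getP p (off + e.1)) (getP p (off + e.2.1)) = getP p (off + e.2.2) := by
  have h' := List.all_eq_true.1 h e he
  simp only [Bool.and_eq_true, Nat.beq_eq] at h'
  exact ⟨by simpa using h'.1, by simpa using h'.2.1, h'.2.2⟩

/-- Whatever is closed under products and holds at the first entries holds of all of them. -/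
theorem derOK_all {Q : ℕ → Prop} (hQ : ∀ a b, Q a → Q b → Q (mul a b)) {d : List (ℕ × ℕ × ℕ)} {p n : ℕ}
    (hk : derKeys d n = true) (hd : derOK d p 0 = true) (hn : ∀ i < n, Q (getP p i)) :
    ∀ i < n + d.length, Q (getP p i) := by
  intro i
  induction i using Nat.strong_induction_on with
  | _ i ih =>
    intro hi
    rcases Nat.lt_or_ge i n with h | h
    · exact hn i h
    · obtain ⟨e, he, rfl⟩ := derKeys_cover hk h hi
      obtain ⟨h1, h2, e3⟩ := derOK_spec hd he
      simp only [Nat.zero_add] at e3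
      rw [← e3]
      exact hQ _ _ (ih _ h1 (by omega)) (ih _ h2 (by omega))

theorem getD_of_take {l g : List ℕ} {n : ℕ} (h : l.take n = g) {i : ℕ} (hi : i < g.length) :
    i < l.length ∧ l.getD i 0 = g.getD i 0 := by
  subst h
  have h1 : i < n ∧ i < l.length := by simpa [List.length_take] using hi
  refine ⟨h1.2, ?_⟩
  rw [List.getD_eq_getElem _ _ h1.2, List.getD_eq_getElem _ _ hi, List.getElem_take]

/-- A set that looks like a common neighbourhood. -/
structure IsCand (St : Std) (P : ℕ → Prop) : Prop where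
  lt : ∀ e, P e → e < 693
  ne : ∃ e, P e
  closed : ∀ e f, P e → P f → P (mul e f)
  local_iso : ∀ e, P e → ∃ φ : ℕ → ℕ, (∀ z ∈ St.s, P (φ z) ∧ com e (φ z) = true ∧ φ z ≠ e) ∧
    (∀ y, P y → com e y = true → y ≠ e → ∃ z ∈ St.s, φ z = y) ∧
    (∀ z ∈ St.s, ∀ w ∈ St.s, φ z = φ w → z = w) ∧
    (∀ z ∈ St.s, ∀ w ∈ St.s, φ (mul z w) = mul (φ z) (φ w))

variable {St : Std}

theorem IsCand.transfer {P : ℕ → Prop} {σ : ℕ → ℕ} (hP : IsCand St P) (hσ : IsAut σ) :
    IsCand St (fun y => ∃ x, P x ∧ σ x = y) where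
  lt := by rintro _ ⟨x, hx, rfl⟩; exact hσ.lt _ (hP.lt x hx)
  ne := let ⟨e, he⟩ := hP.ne; ⟨σ e, e, he, rfl⟩
  closed := by
    rintro _ _ ⟨x, hx, rfl⟩ ⟨y, hy, rfl⟩
    exact ⟨mul x y, hP.closed x y hx hy, hσ.map _ (hP.lt x hx) _ (hP.lt y hy)⟩
  local_iso := by
    rintro _ ⟨e, he, rfl⟩
    obtain ⟨φ, h1, h2, h3, h4⟩ := hP.local_iso e he
    refine ⟨σ ∘ φ, fun z hz => ?_, ?_, fun z hz w hw h => h3 z hz w hw ?_, fun z hz w hw => ?_⟩
    · obtain ⟨a, b, c⟩ := h1 z hz
      exact ⟨⟨φ z, a, rfl⟩, (hσ.com (hP.lt e he) (hP.lt _ a)).trans b,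
        fun h => c (hσ.inj _ (hP.lt _ a) e (hP.lt e he) h)⟩
    · rintro _ ⟨y, hy, rfl⟩ hc hne
      obtain ⟨z, hz, rfl⟩ := h2 y hy ((hσ.com (hP.lt e he) (hP.lt y hy)).symm.trans hc) (fun h => hne (by rw [h]))
      exact ⟨z, hz, rfl⟩
    · exact hσ.inj _ (hP.lt _ (h1 z hz).1) _ (hP.lt _ (h1 w hw).1) h
    · show σ (φ (mul z w)) = mul (σ (φ z)) (σ (φ w))
      rw [h4 z hz w hw, hσ.map _ (hP.lt _ (h1 z hz).1) _ (hP.lt _ (h1 w hw).1)]

theorem app_fix : ∀ {w : List ℕ} {x : ℕ}, x < 693 → (∀ r ∈ w, r < 693 ∧ com r x = true) → app w x = x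
  | [], _, _, _ => rfl
  | r :: w, x, hx, h => by
    rw [app_cons, app_fix hx fun s hs => h s (List.mem_cons_of_mem _ hs)]
    exact (mul_eq_iff (h r List.mem_cons_self).1 hx).2 (h r List.mem_cons_self).2

theorem app_mem {Q : ℕ → Prop} (hQ : ∀ a b, Q a → Q b → Q (mul a b)) :
    ∀ {w : List ℕ} {x : ℕ}, (∀ r ∈ w, Q r) → Q x → Q (app w x)
  | [], _, _, hx => hx
  | r :: w, _, h, hx => by
    rw [app_cons]
    exact hQ _ _ (h r List.mem_cons_self) (app_mem hQ (fun s hs => h s (List.mem_cons_of_mem _ hs)) hx)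

theorem app_back {Q : ℕ → Prop} (hQ : ∀ a b, Q a → Q b → Q (mul a b)) (hlt : ∀ a, Q a → a < 693) :
    ∀ {w : List ℕ} {y : ℕ}, (∀ r ∈ w, Q r) → Q y → ∃ x, Q x ∧ app w x = y
  | [], y, _, hy => ⟨y, hy, rfl⟩
  | r :: w, y, h, hy => by
    have hr := h r List.mem_cons_self
    obtain ⟨x, hx, e⟩ := app_back hQ hlt (fun s hs => h s (List.mem_cons_of_mem _ hs)) (hQ _ _ hr hy)
    exact ⟨x, hx, by rw [app_cons, e, mul_mul_self (hlt r hr) (hlt y hy)]⟩

theorem sigPow_aut : ∀ k : ℕ, IsAut (fun x => Nat.rec (motive := fun _ => ℕ) x (fun _ ih => sig ih) k)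
  | 0 => isAut_id
  | k + 1 => isAut_sig.comp (sigPow_aut k)

/-- Five generators drive the search. -/
theorem search {g : List ℕ} {base : ℕ → List ℕ} {allowed : ℕ → Bool} {nodes : List Node}
    {leaves : List (List ℕ)} (hnodes : nodes.all (nodeOK g base allowed (keys nodes leaves)) = true)
    (hlen : ∀ l ∈ leaves, l.length = 5)
    {State : List ℕ → Prop}
    (hopt : ∀ pre, State pre → pre.length < 5 → ∃ z ∈ base pre.length, patOK g pre pre.length z = true ∧
      ∀ w : List ℕ, w.all allowed = true → fixes pre w = true → State (pre ++ [app w z]))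
    {Goal : Prop} (hleaf : ∀ l ∈ leaves, State l → Goal) :
    ∀ (k : ℕ) (pre : List ℕ), pre.length + k = 5 → pre ∈ keys nodes leaves → State pre → Goal
  | 0, pre, hk, hmem, hS => by
    rcases List.mem_append.1 hmem with h | h
    · obtain ⟨N, hN, rfl⟩ := List.mem_map.1 h
      have h' := Bool.and_eq_true_iff.1 (List.all_eq_true.1 hnodes N hN)
      have : N.pre.length < 5 := by simpa using h'.1
      omega
    · exact hleaf pre h hS
  | k + 1, pre, hk, hmem, hS => by
    rcases List.mem_append.1 hmem with h | h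
    · obtain ⟨N, hN, rfl⟩ := List.mem_map.1 h
      have h' := Bool.and_eq_true_iff.1 (List.all_eq_true.1 hnodes N hN)
      obtain ⟨z, hz, hpat, hnext⟩ := hopt N.pre hS (by omega)
      have h2 := List.all_eq_true.1 h'.2 z (List.mem_filter.2 ⟨hz, hpat⟩)
      obtain ⟨e, -, he⟩ := List.any_eq_true.1 h2
      simp only [Bool.and_eq_true, Nat.beq_eq, List.any_eq_true, leq, decide_eq_true_eq] at he
      obtain ⟨-, ha, hf, hrep, key, hkey, hke⟩ := he
      refine search hnodes hlen hopt hleaf k _ (by simp; omega) (hke ▸ hkey) ?_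
      rw [← hrep]
      exact hnext _ ha hf
    · have := hlen pre h
      omega

/-- The checker is sound. -/
theorem classify {nodes1 : List Node} {stages : List Stage} (hstd : stdOK St = true)
    (hroot : ([] : List ℕ) ∈ keys nodes1 (stages.map (·.pre)))
    (hnodes : nodes1.all (nodeOK St.g baseOne (fun r => com r 0) (keys nodes1 (stages.map (·.pre)))) = true)
    (hstages : stages.all (stageOK St) = true) {P : ℕ → Prop} (hP : IsCand St P) :
    ∃ σ, IsAut σ ∧ ∀ y, (∃ x, P x ∧ σ x = y) ↔ y ∈ St.p0 := by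
  simp only [stdOK, Bool.and_eq_true, Nat.beq_eq, leq, decide_eq_true_eq, List.all_eq_true, List.any_eq_true,
    Bool.or_eq_true, Nat.ble_eq, List.mem_range, nodupB_iff, memb_iff] at hstd
  obtain ⟨hg5, hgnd, ⟨⟨hkeys, hder40⟩, hstdI⟩, hsnd, hs45, hslt', hsclosed, hmove, hp0nd, hp0, hcover, htozero⟩ := hstd
  simp only [imageOK, Bool.and_eq_true, Nat.beq_eq, leq, decide_eq_true_eq] at hstdI
  obtain ⟨hsder, -, hsf, hder⟩ := hstdI
  have hslt : ∀ z ∈ St.s, z < 693 := fun z hz => by simpa using hslt' z hz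
  have hS : ∀ a b, a ∈ St.s → b ∈ St.s → mul a b ∈ St.s := fun a b ha hb => hsclosed a ha b hb
  have hgs : ∀ i < 5, St.g.getD i 0 ∈ St.s := fun i hi => by
    obtain ⟨h1, e⟩ := getD_of_take hsder (hg5.symm ▸ hi : i < St.g.length)
    rw [← e, List.getD_eq_getElem _ _ h1]
    exact List.getElem_mem _
  have hginj : ∀ i < 5, ∀ j < i, St.g.getD i 0 ≠ St.g.getD j 0 := fun i hi j hj h => by
    rw [List.getD_eq_getElem _ _ (hg5 ▸ hi), List.getD_eq_getElem _ _ (hg5 ▸ (hj.trans hi))] at h
    exact hj.ne' (hgnd.getElem_inj_iff.1 h)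
  have hp0lt : ∀ p ∈ St.p0, p < 693 := fun p hp => by simpa using (hp0 p hp).1
  -- the pattern of images and the derived images
  have pat : ∀ (φ : ℕ → ℕ) (pre : List ℕ), (∀ z ∈ St.s, φ z < 693) →
      (∀ z ∈ St.s, ∀ w ∈ St.s, φ z = φ w → z = w) →
      (∀ z ∈ St.s, ∀ w ∈ St.s, φ (mul z w) = mul (φ z) (φ w)) → pre.length < 5 →
      (∀ i < pre.length, φ (St.g.getD i 0) = pre.getD i 0) →
      patOK St.g pre pre.length (φ (St.g.getD pre.length 0)) = true := by
    intro φ pre hlt hinj hhom hn hpre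
    simp only [patOK, List.all_eq_true, List.mem_range, Bool.and_eq_true, Bool.not_eq_true', beq_iff_eq]
    intro j hj
    have a := hgs _ hn
    have b := hgs j (hj.trans hn)
    refine ⟨Bool.eq_false_iff.2 fun h => hginj _ hn j hj (hinj _ a _ b ?_), ?_⟩
    · rw [hpre j hj]; exact Nat.eq_of_beq_eq_true h
    · rw [← hpre j hj, Bool.eq_iff_iff, ← mul_eq_iff (hlt _ a) (hlt _ b), ← mul_eq_iff (hslt _ a) (hslt _ b),
        ← hhom _ a _ b]
      exact ⟨fun h => hinj _ (hS _ _ a b) _ b h, fun h => by rw [h]⟩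
  have imgs : ∀ (φ : ℕ → ℕ) (l t : List ℕ) (p off : ℕ), l.length = 5 → imageOK St l t p off = true →
      (∀ z ∈ St.s, ∀ w ∈ St.s, φ (mul z w) = mul (φ z) (φ w)) →
      (∀ i < l.length, φ (St.g.getD i 0) = l.getD i 0) → t = St.s.map φ := by
    intro φ l t p off hl hI hhom hpre
    simp only [imageOK, Bool.and_eq_true, Nat.beq_eq, leq, decide_eq_true_eq] at hI
    obtain ⟨ht, ht45, htf, htd⟩ := hI
    refine List.ext_getElem (by rw [List.length_map, ht45, hs45]) fun i h1 h2 => ?_
    rw [List.getElem_map, ← List.getD_eq_getElem _ 0 h1, ← List.getD_eq_getElem _ 0 (by simpa using h2)]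
    clear h2
    induction i using Nat.strong_induction_on with
    | _ i ih =>
      rcases Nat.lt_or_ge i 5 with h | h
      · rw [(getD_of_take ht (hl.symm ▸ h : i < l.length)).2, ← hpre i (hl.symm ▸ h),
          (getD_of_take hsder (hg5.symm ▸ h : i < St.g.length)).2]
      · obtain ⟨e, he, rfl⟩ := derKeys_cover hkeys h (by rw [hder40]; omega)
        obtain ⟨a1, a2, a3⟩ := derOK_spec htd he
        obtain ⟨-, -, b3⟩ := derOK_spec hder he
        have hb : ∀ k, k < 45 → getP St.packed (0 + k) = St.s.getD k 0 := fun k hk => fieldsEq_iff hsf (hs45 ▸ hk)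
        rw [← fieldsEq_iff htf h1, ← a3, ← hb _ (ht45 ▸ h1), ← b3, fieldsEq_iff htf (a1.trans h1),
          fieldsEq_iff htf (a2.trans h1), hb _ (ht45 ▸ a1.trans h1), hb _ (ht45 ▸ a2.trans h1),
          ih _ a1 (a1.trans h1), ih _ a2 (a2.trans h1)]
        refine (hhom _ ?_ _ ?_).symm
        · rw [List.getD_eq_getElem _ _ (hs45 ▸ ht45 ▸ a1.trans h1)]; exact List.getElem_mem _
        · rw [List.getD_eq_getElem _ _ (hs45 ▸ ht45 ▸ a2.trans h1)]; exact List.getElem_mem _
  have extend : ∀ (φ : ℕ → ℕ) (w pre : List ℕ), pre.length < 5 → (∀ i < pre.length, φ (St.g.getD i 0) = pre.getD i 0) →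
      (∀ i < pre.length, app w (φ (St.g.getD i 0)) = φ (St.g.getD i 0)) →
      ∀ i < (pre ++ [app w (φ (St.g.getD pre.length 0))]).length,
        app w (φ (St.g.getD i 0)) = (pre ++ [app w (φ (St.g.getD pre.length 0))]).getD i 0 := by
    intro φ w pre _ hpre hfix i hi
    simp only [List.length_append, List.length_singleton] at hi
    rcases Nat.lt_or_ge i pre.length with h | h
    · rw [List.getD_append _ _ _ _ h, ← hpre i h, hfix i h]
    · rw [show i = pre.length by omega, List.getD_append_right _ _ _ _ le_rfl]; simp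
  -- the final step
  let Goal : Prop := ∃ σ, IsAut σ ∧ ∀ y, (∃ x, P x ∧ σ x = y) ↔ y ∈ St.p0
  have final : ∀ σ, IsAut σ → (∀ p ∈ St.p0, ∃ x, P x ∧ σ x = p) → Goal := by
    intro σ hσ hsup
    refine ⟨σ, hσ, fun y => ⟨fun hy => ?_, hsup y⟩⟩
    by_contra hno
    have hQ := hP.transfer hσ
    have hy693 : y < 693 := hQ.lt y hy
    rcases hcover y hy693 with h | ⟨p, hp, hpy⟩
    · exact hno h
    obtain ⟨φ, -, h2, -, -⟩ := hQ.local_iso p (hsup p hp)
    have hsubset : y :: St.p0.filter (adj p) ⊆ St.s.map φ := by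
      intro x hx
      rcases List.mem_cons.1 hx with rfl | hx
      · obtain ⟨z, hz, e⟩ := h2 x hy hpy (fun e => hno (e ▸ hp))
        exact List.mem_map.2 ⟨z, hz, e⟩
      · obtain ⟨hxm, hxa⟩ := List.mem_filter.1 hx
        obtain ⟨z, hz, e⟩ := h2 x (hsup x hxm) (adj_iff.1 hxa).2 (adj_iff.1 hxa).1.symm
        exact List.mem_map.2 ⟨z, hz, e⟩
    have hnd : (y :: St.p0.filter (adj p)).Nodup :=
      List.nodup_cons.2 ⟨fun h => hno (List.mem_filter.1 h).1, hp0nd.filter _⟩
    have := (List.subperm_of_subset hnd hsubset).length_le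
    rw [List.length_cons, List.length_map, hs45] at this
    have := (hp0 p hp).2
    omega
  -- the first search, through changing automorphisms
  let State1 : List ℕ → Prop := fun pre => ∃ σ, IsAut σ ∧ (∃ x, P x ∧ σ x = 0) ∧ ∃ φ : ℕ → ℕ,
    (∀ z ∈ St.s, (∃ x, P x ∧ σ x = φ z) ∧ com 0 (φ z) = true ∧ φ z ≠ 0) ∧
    (∀ y, (∃ x, P x ∧ σ x = y) → com 0 y = true → y ≠ 0 → ∃ z ∈ St.s, φ z = y) ∧
    (∀ z ∈ St.s, ∀ w ∈ St.s, φ z = φ w → z = w) ∧
    (∀ z ∈ St.s, ∀ w ∈ St.s, φ (mul z w) = mul (φ z) (φ w)) ∧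
    ∀ i < pre.length, φ (St.g.getD i 0) = pre.getD i 0
  have hstart : State1 [] := by
    obtain ⟨e, he⟩ := hP.ne
    obtain ⟨σ, hσ, hσe⟩ : ∃ σ, IsAut σ ∧ σ e = 0 := by
      refine point_induction (P := fun r => ∃ σ, IsAut σ ∧ σ r = 0) ?_ ?_ (hP.lt e he)
      · intro j hj
        have h := htozero j hj
        exact ⟨_, isAut_app fun r hr => by simpa using h.1 r hr, h.2⟩
      · rintro j hj r hr ⟨σ, hσ, h0⟩
        exact ⟨_, hσ.comp (isAut_mul (gens_lt hj)), by
          show σ (mul _ (mul _ r)) = 0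
          rw [mul_mul_self (gens_lt hj) hr, h0]⟩
    obtain ⟨φ, h1, h2, h3, h4⟩ := (hP.transfer hσ).local_iso 0 ⟨e, he, hσe⟩
    exact ⟨σ, hσ, ⟨e, he, hσe⟩, φ, h1, h2, h3, h4, fun i hi => absurd hi (Nat.not_lt_zero i)⟩
  have hlen1 : ∀ l ∈ stages.map (·.pre), l.length = 5 := by
    intro l hl
    obtain ⟨S, hS', rfl⟩ := List.mem_map.1 hl
    have := List.all_eq_true.1 hstages S hS'
    simp only [stageOK, Bool.and_eq_true, Nat.beq_eq] at this
    exact this.1
  refine search hnodes hlen1 (State := State1) ?_ ?_ 5 [] rfl hroot hstart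
  · rintro pre ⟨σ, hσ, he0, φ, h1, h2, h3, h4, h5⟩ hn
    have hQ := hP.transfer hσ
    have hlt : ∀ z ∈ St.s, φ z < 693 := fun z hz => hQ.lt _ (h1 z hz).1
    refine ⟨φ (St.g.getD pre.length 0), ?_, pat φ pre hlt h3 h4 hn h5, fun w hw hf => ?_⟩
    · obtain ⟨a, b, c⟩ := h1 _ (hgs _ hn)
      exact List.mem_filter.2 ⟨List.mem_range.2 (hQ.lt _ a), adj_zero c b⟩
    simp only [fixes, List.all_eq_true, Bool.and_eq_true] at hw hf
    have hwlt : ∀ r ∈ w, r < 693 := fun r hr => by simpa using (hf r hr).1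
    have hτ := isAut_app hwlt
    have h0 : app w 0 = 0 := app_fix (by norm_num) fun r hr => ⟨hwlt r hr, hw r hr⟩
    refine ⟨app w ∘ σ, hτ.comp hσ, ?_, app w ∘ φ, fun z hz => ?_, ?_, fun z hz v hv h => ?_, fun z hz v hv => ?_, ?_⟩
    · obtain ⟨x, hx, e⟩ := he0
      exact ⟨x, hx, by rw [Function.comp_apply, e, h0]⟩
    · obtain ⟨⟨x, hx, e⟩, b, c⟩ := h1 z hz
      refine ⟨⟨x, hx, congrArg (app w) e⟩, ?_, fun h => c (hτ.inj _ (hlt z hz) 0 (by norm_num) (h.trans h0.symm))⟩
      show com 0 (app w (φ z)) = true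
      rw [← h0, hτ.com (by norm_num) (hlt z hz)]
      exact b
    · rintro _ ⟨x, hx, rfl⟩ hc hne
      have hx' := hσ.lt x (hP.lt x hx)
      obtain ⟨z, hz, e⟩ := h2 (σ x) ⟨x, hx, rfl⟩ (by
        rw [← hτ.com (by norm_num) hx', h0]; exact hc) (fun h => hne (by rw [Function.comp_apply, h, h0]))
      exact ⟨z, hz, congrArg (app w) e⟩
    · exact h3 z hz v hv (hτ.inj _ (hlt z hz) _ (hlt v hv) h)
    · show app w (φ (mul z v)) = _
      rw [h4 z hz v hv, hτ.map _ (hlt z hz) _ (hlt v hv)]
      rfl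
    · refine extend φ w pre hn h5 fun i hi => app_fix (hlt _ (hgs i (hi.trans hn))) fun r hr => ⟨hwlt r hr, ?_⟩
      rw [h5 i hi, List.getD_eq_getElem _ _ hi]
      exact (hf r hr).2 _ (List.getElem_mem _)
  rintro l hl ⟨σ, hσ, he0, φ, h1, h2, h3, h4, h5⟩
  obtain ⟨S, hSm, rfl⟩ := List.mem_map.1 hl
  have hQ := hP.transfer hσ
  set Q : ℕ → Prop := fun y => ∃ x, P x ∧ σ x = y
  have hstage := List.all_eq_true.1 hstages S hSm
  simp only [stageOK, Bool.and_eq_true, Bool.or_eq_true, Bool.not_eq_true', List.any_eq_true, leq,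
    decide_eq_true_eq, Nat.beq_eq] at hstage
  obtain ⟨-, himgS, hstage⟩ := hstage
  have hS1 := imgs φ S.pre S.s1 _ _ (hlen1 _ hl) himgS h4 h5
  rw [hS1] at hstage
  rcases hstage with hbad | ⟨⟨⟨r0, hr0, e0⟩, hnodes2⟩, hleaves⟩
  · have : nodupB (St.s.map φ) = true := nodupB_iff.2 (hsnd.map_on fun a ha b hb h => h3 a ha b hb h)
    simp [this] at hbad
  set s1 := St.s.map φ with hs1def
  set s := s1.getD 0 0 with hsdef
  have hs1 : ∀ y, y ∈ s1 ↔ Q y ∧ com 0 y = true ∧ y ≠ 0 := fun y => by
    rw [hs1def, List.mem_map]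
    constructor
    · rintro ⟨z, hz, rfl⟩; exact h1 z hz
    · rintro ⟨a, b, c⟩; exact h2 y a b c
  have hsm : s ∈ s1 := by
    rw [hsdef, List.getD_eq_getElem _ _ (by rw [hs1def, List.length_map, hs45]; norm_num)]
    exact List.getElem_mem _
  obtain ⟨hQs, hs0c, hs0⟩ := (hs1 s).1 hsm
  have hs693 := hQ.lt s hQs
  let State2 : List ℕ → Prop := fun pre => ∃ ψ : ℕ → ℕ,
    (∀ z ∈ St.s, Q (ψ z) ∧ com s (ψ z) = true ∧ ψ z ≠ s) ∧
    (∀ z ∈ St.s, ∀ w ∈ St.s, ψ z = ψ w → z = w) ∧
    (∀ z ∈ St.s, ∀ w ∈ St.s, ψ (mul z w) = mul (ψ z) (ψ w)) ∧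
    ψ (St.g.getD 0 0) = 0 ∧ pre ≠ [] ∧ ∀ i < pre.length, ψ (St.g.getD i 0) = pre.getD i 0
  have hstart2 : State2 [0] := by
    obtain ⟨ψ, p1, p2, p3, p4⟩ := hQ.local_iso s hQs
    obtain ⟨z, hz, ez⟩ := p2 0 he0 ((com_comm hs693 (by norm_num)).trans hs0c) hs0.symm
    obtain ⟨i, hi, rfl⟩ := List.getElem_of_mem hz
    obtain ⟨hmw, hme⟩ := hmove i (hs45 ▸ hi)
    rw [List.getD_eq_getElem _ _ hi] at hme
    set v := St.move.getD i [] with hv
    have hva : IsAut (app v) := isAut_app fun r hr => hslt r (hmw r hr)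
    have hvS : ∀ x ∈ St.s, app v x ∈ St.s := fun x hx => app_mem (Q := (· ∈ St.s)) hS hmw hx
    refine ⟨ψ ∘ app v, fun x hx => p1 _ (hvS x hx),
      fun x hx y hy h => hva.inj x (hslt x hx) y (hslt y hy) (p3 _ (hvS x hx) _ (hvS y hy) h),
      fun x hx y hy => ?_, ?_, List.cons_ne_nil _ _, fun j hj => ?_⟩
    · show ψ (app v (mul x y)) = _
      rw [hva.map x (hslt x hx) y (hslt y hy), p4 _ (hvS x hx) _ (hvS y hy)]
      rfl
    · show ψ (app v _) = 0
      rw [hme, ez]
    · rw [List.length_singleton] at hj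
      rw [show j = 0 by omega]
      show ψ (app v _) = 0
      rw [hme, ez]
  have hlen2 : ∀ l ∈ S.leaves.map (·.pre), l.length = 5 := by
    intro l hl
    obtain ⟨L, hL, rfl⟩ := List.mem_map.1 hl
    have := List.all_eq_true.1 hleaves L hL
    simp only [leafOK, Bool.and_eq_true, Nat.beq_eq] at this
    exact this.1
  refine search hnodes2 hlen2 (State := State2) ?_ ?_ 4 [0] rfl (List.mem_append_left _ ?_) hstart2
  · rintro pre ⟨ψ, p1, p3, p4, p0, hpre0, p5⟩ hn
    have hlt : ∀ z ∈ St.s, ψ z < 693 := fun z hz => hQ.lt _ (p1 z hz).1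
    refine ⟨ψ (St.g.getD pre.length 0), ?_, pat ψ pre hlt p3 p4 hn p5, fun w hw hf => ?_⟩
    · obtain ⟨a, b, c⟩ := p1 _ (hgs _ hn)
      have hcom0 : com 0 (ψ (St.g.getD pre.length 0)) = com (St.g.getD 0 0) (St.g.getD pre.length 0) := by
        conv_lhs => arg 1; rw [← p0]
        rw [Bool.eq_iff_iff, ← mul_eq_iff (hlt _ (hgs 0 (by norm_num))) (hlt _ (hgs _ hn)),
          ← mul_eq_iff (hslt _ (hgs 0 (by norm_num))) (hslt _ (hgs _ hn)), ← p4 _ (hgs 0 (by norm_num)) _ (hgs _ hn)]
        exact ⟨fun h => p3 _ (hS _ _ (hgs 0 (by norm_num)) (hgs _ hn)) _ (hgs _ hn) h, fun h => by rw [h]⟩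
      rw [baseTwo, ← hcom0]
      cases hc : com 0 (ψ (St.g.getD pre.length 0)) with
      | true =>
        rw [cond_true]
        refine List.mem_filter.2 ⟨(hs1 _).2 ⟨a, hc, fun h => ?_⟩, adj_iff.2 ⟨c.symm, b⟩⟩
        rcases Nat.eq_zero_or_pos pre.length with hp | hp
        · exact hpre0 (List.eq_nil_of_length_eq_zero hp)
        · exact hginj _ hn 0 hp (p3 _ (hgs _ hn) _ (hgs 0 (by norm_num)) (h.trans p0.symm))
      | false =>
        rw [cond_false]
        refine List.mem_filter.2 ⟨List.mem_range.2 (hlt _ (hgs _ hn)), ?_⟩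
        show (adj s _ && !(com 0 _)) = true
        rw [adj_iff.2 ⟨c.symm, b⟩, hc]
        rfl
    simp only [fixes, List.all_eq_true, Bool.and_eq_true, memb_iff] at hw hf
    have hwlt : ∀ r ∈ w, r < 693 := fun r hr => by simpa using (hf r hr).1
    have hτ := isAut_app hwlt
    have hws : app w s = s := app_fix hs693 fun r hr => ⟨hwlt r hr, (hw r hr).2⟩
    refine ⟨app w ∘ ψ, fun z hz => ?_, fun z hz v hv h => p3 z hz v hv (hτ.inj _ (hlt z hz) _ (hlt v hv) h),
      fun z hz v hv => ?_, ?_, List.append_ne_nil_of_right_ne_nil _ (List.cons_ne_nil _ _), ?_⟩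
    · obtain ⟨a, b, c⟩ := p1 z hz
      refine ⟨app_mem (Q := Q) hQ.closed (fun r hr => ((hs1 r).1 (hw r hr).1).1) a, ?_,
        fun h => c (hτ.inj _ (hlt z hz) s hs693 (h.trans hws.symm))⟩
      show com s (app w (ψ z)) = true
      rw [← hws, hτ.com hs693 (hlt z hz)]
      exact b
    · show app w (ψ (mul z v)) = _
      rw [p4 z hz v hv, hτ.map _ (hlt z hz) _ (hlt v hv)]
      rfl
    · show app w (ψ _) = 0
      rw [p0]
      exact app_fix (by norm_num) fun r hr => ⟨hwlt r hr, by
        rw [com_comm (hwlt r hr) (by norm_num)]; exact ((hs1 r).1 (hw r hr).1).2.1⟩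
    · refine extend ψ w pre hn p5 fun i hi => app_fix (hlt _ (hgs i (hi.trans hn))) fun r hr => ⟨hwlt r hr, ?_⟩
      rw [p5 i hi, List.getD_eq_getElem _ _ hi]
      exact (hf r hr).2 _ (List.getElem_mem _)
  · rintro l hl2 ⟨ψ, p1, p3, p4, p0, -, p5⟩
    obtain ⟨L, hLm, rfl⟩ := List.mem_map.1 hl2
    have hL := List.all_eq_true.1 hleaves L hLm
    simp only [leafOK, degOK, goodOK, Bool.and_eq_true, Bool.or_eq_true, Bool.not_eq_true', List.any_eq_true,
      Nat.beq_eq, List.all_eq_true, memb_iff, nodupB_iff] at hL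
    obtain ⟨-, himgL, hL⟩ := hL
    have hT := imgs ψ L.pre L.t _ _ (hlen2 _ hl2) himgL p4 p5
    simp only [hT] at hL
    rcases hL with (hbad | ⟨z, hz, hbad⟩) | ⟨hz0, hf1, hkeysL, hdok, hout⟩
    · have : nodupB (St.s.map ψ) = true := nodupB_iff.2 (hsnd.map_on fun a ha b hb h => p3 a ha b hb h)
      simp [this] at hbad
    · exfalso
      obtain ⟨u, hu, rfl⟩ := List.mem_map.1 hz
      obtain ⟨a, b, c⟩ := p1 u hu
      rcases hbad with hbad | ⟨hbad, hno⟩
      · rw [← hsdef, adj_iff.2 ⟨c.symm, b⟩] at hbad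
        simp at hbad
      · obtain ⟨e1, e2⟩ := adj_iff.1 hbad
        have := memb_iff.2 ((hs1 (ψ u)).2 ⟨a, e2, e1.symm⟩)
        simp [this] at hno
    have hall : ∀ i < 91 + L.d.length, Q (getP L.seq i) := by
      refine derOK_all hQ.closed hkeysL hdok fun i hi => ?_
      rcases Nat.eq_zero_or_pos i with rfl | hpos
      · rw [hz0]; exact he0
      rcases Nat.lt_or_ge i 46 with h | h
      · have h45 : i - 1 < s1.length := by rw [hs1def, List.length_map, hs45]; omega
        have e := fieldsEq_iff hf1 h45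
        rw [show 1 + (i - 1) = i by omega] at e
        rw [e, List.getD_eq_getElem _ _ h45]
        exact ((hs1 _).1 (List.getElem_mem _)).1
      · have hI := himgL
        simp only [imageOK, Bool.and_eq_true, Nat.beq_eq] at hI
        have e := fieldsEq_iff hI.2.2.1 (show i - 46 < L.t.length by omega)
        rw [show 46 + (i - 46) = i by omega] at e
        obtain ⟨u, hu, eu⟩ := List.mem_map.1 (hT ▸ (List.getD_eq_getElem L.t 0 (show i - 46 < L.t.length by omega)
          ▸ List.getElem_mem _) : L.t.getD (i - 46) 0 ∈ St.s.map ψ)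
        rw [e, ← eu]
        exact (p1 u hu).1
    rcases hout with ⟨hy, hn46, hin, hnd, hadj⟩ | ⟨hw, hk, himg⟩
    · exfalso
      simp only [Nat.blt_eq] at hy hin
      obtain ⟨χ, -, c2, -, -⟩ := hQ.local_iso _ (hall _ hy)
      have hsubset : L.nb.map (getP L.seq) ⊆ St.s.map χ := by
        intro x hx
        obtain ⟨i, hi, rfl⟩ := List.mem_map.1 hx
        obtain ⟨e1, e2⟩ := adj_iff.1 (hadj i hi)
        obtain ⟨u, hu, e⟩ := c2 _ (hall i (hin i hi)) e2 e1.symm
        exact List.mem_map.2 ⟨u, hu, e⟩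
      have := (List.subperm_of_subset hnd hsubset).length_le
      rw [List.length_map, List.length_map, hn46, hs45] at this
      omega
    · refine final _ (((isAut_app fun r hr => by simpa using hw r hr).comp (sigPow_aut L.k)).comp hσ) fun p hp => ?_
      obtain ⟨j, hj, rfl⟩ := List.getElem_of_mem hp
      obtain ⟨hpos, e⟩ := himg j (List.mem_range.2 hj)
      simp only [Nat.blt_eq] at hpos
      obtain ⟨u, hu, e'⟩ := hall (L.pos.getD j 0) hpos
      refine ⟨u, hu, ?_⟩
      rw [← List.getD_eq_getElem _ 0 hj, ← e, Function.comp_apply, Function.comp_apply, e']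
      rfl
  · obtain ⟨N, hN, rfl⟩ := List.mem_map.1 ((List.mem_append.1 hr0).resolve_right List.not_mem_nil)
    exact List.mem_map.2 ⟨N, hN, e0.symm⟩

end CfsgLib.Recog.FiM22
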