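import Cfsg.Agent.Lib.Recog.SporBound.Check

set_option autoImplicit false
set_option maxRecDepth 20000

/-! For each point not orthogonal to the first, a word fixing the first and carrying it to a fixed point
(owner: helper13). -/

namespace CfsgLib.Recog.FiM22

/-- The fixed second point. -/
def second : ℕ := 1

/-- The words. -/
def pairWords : List (ℕ × List ℕ) := [
(1,[]),
(3,[0,4]),
(5,[0]),
(6,[4]),
(7,[0,2]),
(8,[0,11]),
(9,[0,12]),
(10,[0,13]),
(14,[12]),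
(15,[0,18]),
(19,[0,22]),
(23,[0,20]),
(24,[0,21]),
(25,[2]),
(28,[20]),
(30,[63]),
(31,[18]),
(34,[0,32]),
(35,[0,33]),
(37,[13]),
(38,[67]),
(39,[75]),
(40,[32]),
(42,[77]),
(45,[11]),
(47,[83]),
(48,[141]),
(52,[21]),
(54,[22]),
(55,[0,65]),
(57,[92]),
(58,[179]),
(59,[86]),
(60,[0,74]),
(61,[122]),
(62,[33]),
(66,[0,79]),
(68,[12,86]),
(69,[133]),
(70,[115]),
(72,[107]),
(73,[2,92]),
(78,[0,63]),
(80,[0,67]),
(81,[4,188]),
(84,[12,107]),
(85,[4,189]),
(87,[220]),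
(89,[0,112]),
(90,[2,115]),
(91,[4,170]),
(93,[0,75]),
(94,[4,180]),
(95,[0,121]),
(96,[0,77]),
(97,[0,82]),
(98,[0,83]),
(99,[4,232]),
(101,[12,131]),
(102,[0,86]),
(103,[0,123]),
(104,[0,124]),
(105,[13,82]),
(106,[4,237]),
(108,[0,131]),
(109,[2,141]),
(110,[174]),
(111,[0,143]),
(113,[12,141]),
(114,[4,208]),
(116,[0,92]),
(117,[0,150]),
(119,[2,150]),
(120,[4,221]),
(125,[4,362]),
(127,[12,164]),
(128,[0,107]),
(129,[65]),
(130,[150]),
(132,[0,170]),
(134,[4,347]),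
(135,[4,433]),
(136,[0,161]),
(137,[0,164]),
(138,[2,179]),
(139,[0,180]),
(140,[12,112]),
(142,[21,645]),
(144,[12,179]),
(145,[2,112]),
(146,[0,189]),
(147,[0,115]),
(148,[11,115]),
(149,[0,188]),
(151,[0,196]),
(152,[131]),
(153,[74]),
(154,[2,196]),
(155,[0,122]),
(156,[124]),
(157,[0,133]),
(158,[13,123]),
(159,[123]),
(160,[13,124]),
(162,[79]),
(163,[196]),
(165,[0,208]),
(167,[212]),
(169,[2,212]),
(171,[4,92]),
(172,[82]),
(173,[13,133]),
(176,[0,219]),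
(177,[0,221]),
(178,[11,219]),
(181,[4,150]),
(182,[0,141]),
(183,[4,131]),
(184,[4,292]),
(185,[4,293]),
(186,[2,143]),
(187,[18,645]),
(190,[0,237]),
(191,[0,232]),
(192,[20,348]),
(193,[20,366]),
(194,[12,212]),
(195,[4,86]),
(197,[164]),
(199,[293]),
(200,[4,365]),
(201,[0,174]),
(202,[296]),
(203,[0,175]),
(204,[20,570]),
(205,[253]),
(207,[2,253]),
(209,[4,115]),
(210,[0,256]),
(211,[12,256]),
(213,[2,170]),
(214,[0,259]),
(215,[311]),
(216,[0,245]),
(217,[21,509]),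
(218,[20,585]),
(222,[4,196]),
(223,[0,179]),
(224,[0,272]),
(225,[2,180]),
(226,[0,275]),
(228,[12,189]),
(229,[4,164]),
(230,[11,281]),
(231,[0,281]),
(233,[2,281]),
(234,[18,665]),
(235,[2,256]),
(236,[12,188]),
(238,[18,658]),
(239,[4,107]),
(240,[11,196]),
(241,[12,253]),
(243,[121]),
(244,[161]),
(246,[0,292]),
(247,[245]),
(248,[0,295]),
(249,[11,208]),
(250,[13,296]),
(251,[0,299]),
(252,[11,295]),
(254,[2,208]),
(255,[4,570]),
(257,[0,212]),
(258,[188]),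
(260,[0,308]),
(261,[175]),
(262,[0,310]),
(263,[13,310]),
(264,[13,311]),
(265,[11,221]),
(266,[13,220]),
(267,[0,220]),
(268,[11,220]),
(269,[2,221]),
(270,[4,585]),
(273,[0,324]),
(274,[189]),
(276,[0,327]),
(277,[180]),
(278,[170]),
(279,[11,324]),
(280,[347]),
(282,[0,331]),
(283,[2,332]),
(284,[11,334]),
(285,[2,331]),
(286,[2,299]),
(287,[0,332]),
(288,[18,636]),
(289,[0,334]),
(290,[20,472]),
(291,[21,491]),
(294,[21,636]),
(297,[11,348]),
(298,[0,348]),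
(300,[0,253]),
(301,[0,351]),
(302,[232]),
(303,[2,348]),
(304,[4,604]),
(306,[275]),
(307,[112]),
(309,[20,466]),
(312,[63,545]),
(313,[18,575]),
(314,[11,366]),
(315,[0,366]),
(316,[0,362]),
(317,[2,272]),
(318,[20,245]),
(319,[237]),
(320,[2,366]),
(321,[4,617]),
(322,[472]),
(323,[208]),
(325,[259]),
(326,[256]),
(328,[221]),
(329,[470]),
(330,[219]),
(333,[2,382]),
(335,[0,382]),
(336,[20,174]),
(337,[4,219]),
(338,[4,220]),
(339,[13,292]),
(340,[13,293]),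
(341,[0,293]),
(342,[0,390]),
(343,[4,310]),
(344,[4,311]),
(345,[0,296]),
(346,[11,296]),
(349,[0,397]),
(352,[536]),
(353,[143]),
(354,[2,397]),
(356,[327]),
(358,[4,295]),
(359,[4,296]),
(360,[0,311]),
(361,[0,407]),
(363,[13,407]),
(364,[18,536]),
(367,[0,414]),
(368,[2,415]),
(369,[11,417]),
(370,[2,324]),
(371,[555]),
(372,[299]),
(373,[2,414]),
(374,[332]),
(375,[487]),
(376,[417]),
(377,[308]),
(378,[415]),
(379,[486]),
(380,[334]),
(381,[488]),
(383,[2,334]),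
(384,[18,555]),
(385,[63,595]),
(386,[4,536]),
(387,[63,527]),
(388,[18,574]),
(389,[0,347]),
(391,[0,437]),
(392,[11,382]),
(393,[0,433]),
(394,[2,351]),
(395,[11,347]),
(396,[4,174]),
(398,[466]),
(400,[575]),
(401,[443]),
(404,[63,590]),
(405,[4,555]),
(406,[0,365]),
(408,[0,455]),
(409,[11,362]),
(410,[4,161]),
(411,[13,455]),
(412,[11,365]),
(413,[4,245]),
(416,[2,464]),
(420,[574]),
(421,[462]),
(422,[382]),
(423,[281]),
(424,[464]),
(425,[272]),
(426,[351]),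
(427,[576]),
(428,[2,470]),
(429,[13,437]),
(430,[362]),
(431,[12,390]),
(432,[4,575]),
(434,[13,390]),
(435,[2,481]),
(436,[13,484]),
(438,[365]),
(439,[2,486]),
(440,[11,487]),
(441,[0,481]),
(442,[12,491]),
(444,[0,484]),
(445,[331]),
(447,[348]),
(448,[491]),
(449,[509]),
(450,[433]),
(451,[12,407]),
(452,[4,574]),
(453,[2,499]),
(454,[13,502]),
(456,[0,415]),
(457,[20,310]),
(458,[0,417]),
(459,[0,418]),
(460,[0,499]),
(461,[12,509]),
(463,[0,502]),
(465,[2,417]),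
(467,[11,418]),
(469,[366]),
(471,[324]),
(473,[556]),
(474,[537]),
(475,[20,292]),
(476,[570]),
(477,[292]),
(478,[12,437]),
(479,[11,433]),
(480,[4,175]),
(482,[2,527]),
(483,[0,443]),
(485,[295]),
(489,[0,527]),
(490,[2,443]),
(492,[2,537]),
(493,[414]),
(494,[397]),
(495,[11,470]),
(496,[585]),
(497,[310]),
(498,[12,455]),
(500,[2,545]),
(501,[0,462]),
(503,[0,464]),
(504,[13,552]),
(505,[0,466]),
(506,[2,552]),
(507,[0,545]),
(508,[2,462]),
(510,[2,556]),
(511,[11,464]),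
(512,[2,466]),
(513,[2,472]),
(514,[0,552]),
(515,[13,466]),
(516,[0,470]),
(517,[593]),
(518,[0,472]),
(519,[13,472]),
(520,[481]),
(521,[604]),
(523,[502]),
(524,[0,486]),
(525,[0,487]),
(526,[0,488]),
(528,[12,481]),
(529,[0,491]),
(530,[11,484]),
(531,[418]),
(532,[2,487]),
(533,[11,488]),
(534,[12,574]),
(535,[2,491]),
(538,[2,576]),
(539,[12,575]),
(540,[4,390]),
(541,[499]),
(542,[617]),
(544,[484]),
(546,[12,499]),
(547,[0,509]),
(548,[11,502]),
(549,[4,407]),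
(550,[13,590]),
(551,[11,570]),
(553,[2,590]),
(554,[2,509]),
(557,[2,593]),
(558,[0,590]),
(559,[13,595]),
(560,[0,595]),
(561,[2,595]),
(562,[527]),
(563,[390]),
(565,[636]),
(566,[13,602]),
(567,[2,602]),
(568,[4,455]),
(569,[12,527]),
(571,[0,537]),
(572,[21,292]),
(573,[0,602]),
(577,[0,536]),
(578,[13,536]),
(579,[4,437]),
(580,[545]),
(581,[407]),
(583,[645]),
(584,[12,545]),
(586,[0,556]),
(587,[21,310]),
(588,[0,555]),
(589,[20,221]),
(591,[20,208]),
(592,[22,656]),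
(594,[13,555]),
(596,[668]),
(597,[437]),
(598,[2,570]),
(599,[602]),
(600,[658]),
(601,[11,585]),
(603,[0,574]),
(605,[0,576]),
(606,[0,570]),
(607,[0,635]),
(608,[667]),
(609,[11,576]),
(610,[0,575]),
(611,[11,593]),
(612,[11,595]),
(613,[455]),
(614,[2,585]),
(615,[552]),
(616,[665]),
(618,[0,593]),
(619,[0,585]),
(620,[0,644]),
(621,[11,590]),
(622,[11,644]),
(623,[11,635]),
(624,[11,636]),
(626,[2,604]),
(627,[595]),
(628,[4,348]),
(629,[22,669]),
(630,[22,657]),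
(631,[0,617]),
(632,[18,390]),
(633,[0,604]),
(634,[0,657]),
(638,[18,407]),
(639,[2,617]),
(640,[590]),
(641,[4,366]),
(642,[22,676]),
(643,[0,656]),
(646,[21,143]),
(647,[21,299]),
(648,[0,667]),
(649,[688]),
(650,[4,397]),
(651,[11,669]),
(652,[2,635]),
(653,[2,636]),
(654,[11,645]),
(655,[4,414]),
(659,[0,636]),
(660,[0,668]),
(661,[687]),
(662,[11,676]),
(663,[2,644]),
(664,[2,645]),
(666,[0,645]),
(670,[2,657]),
(671,[2,658]),
(672,[18,382]),
(673,[2,656]),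
(674,[0,665]),
(675,[0,658]),
(677,[2,665]),
(678,[18,281]),
(679,[0,669]),
(680,[0,676]),
(681,[0,687]),
(682,[11,687]),
(683,[656]),
(684,[11,688]),
(685,[0,688]),
(686,[657]),
(689,[644]),
(690,[635]),
(691,[676]),
(692,[669])]

end CfsgLib.Recog.FiM22
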