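import Cfsg.Agent.Lib.Recog.FiM22.Class.Std
import Cfsg.Agent.Lib.Recog.FiM22.PairData

set_option autoImplicit false
set_option maxRecDepth 20000

/-!
Transitivity on points and on pairs of points that are not orthogonal; common neighbourhoods
(owner: helper13).
-/

namespace CfsgLib.Recog.FiM22

open CfsgLib.ThreeTrans.CosetIndex (forallFrom forallFrom_elim)

/-- The words to the first point. -/
noncomputable def zeroOK (j : ℕ) : Bool :=
  (std.toZero.getD j []).all (fun r => Nat.blt r 693) && Nat.beq (app (std.toZero.getD j []) (gensL.getD j 0)) 0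

theorem zero_ok : forallFrom zeroOK 0 11 = true := by decide +kernel

theorem zero_spec {j : ℕ} (hj : j < 11) : (∀ r ∈ std.toZero.getD j [], r < 693) ∧
    app (std.toZero.getD j []) (gensL.getD j 0) = 0 := by
  have h := forallFrom_elim zero_ok (Nat.zero_le j) (by omega)
  simp only [zeroOK, Bool.and_eq_true, Nat.beq_eq, List.all_eq_true] at h
  exact ⟨fun r hr => by simpa using h.1 r hr, h.2⟩

/-- Some automorphism carries a point to the first one. -/
theorem exists_aut_zero {r : ℕ} (hr : r < 693) : ∃ σ, IsAut σ ∧ σ r = 0 := by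
  refine point_induction (P := fun r => ∃ σ, IsAut σ ∧ σ r = 0) ?_ ?_ hr
  · exact fun j hj => ⟨_, isAut_app (zero_spec hj).1, (zero_spec hj).2⟩
  · rintro j hj r hr ⟨σ, hσ, h0⟩
    exact ⟨_, hσ.comp (isAut_mul (gens_lt hj)), by
      show σ (mul _ (mul _ r)) = 0
      rw [mul_mul_self (gens_lt hj) hr, h0]⟩

/-- The only point orthogonal to all neighbours of the first is the first. -/
noncomputable def perpOK (z : ℕ) : Bool :=
  Nat.beq z 0 || (List.range 693).any fun t => !(Nat.beq t 0) && (com 0 t && !(com z t))

theorem perp_ok : forallFrom perpOK 0 693 = true := by decide +kernel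

/-- A point orthogonal to all neighbours of a point is that point. -/
theorem double_perp {r z : ℕ} (hr : r < 693) (hz : z < 693)
    (h : ∀ t < 693, t ≠ r → com r t = true → com z t = true) : z = r := by
  obtain ⟨σ, hσ, h0⟩ := exists_aut_zero hr
  refine hσ.inj z hz r hr ?_
  rw [h0]
  by_contra hne
  have hk := forallFrom_elim perp_ok (Nat.zero_le (σ z)) (by have := hσ.lt z hz; omega)
  simp only [perpOK, Bool.or_eq_true, Nat.beq_eq, List.any_eq_true, Bool.and_eq_true, Bool.not_eq_true',
    List.mem_range] at hk
  rcases hk with hk | ⟨t, ht, ht0, htc, htz⟩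
  · exact hne hk
  obtain ⟨u, hu, rfl⟩ := hσ.surj ht
  rw [← h0, hσ.com hr hu] at htc
  rw [hσ.com hz hu, h u hu (fun e => ?_) htc] at htz
  · exact absurd htz (by simp)
  · subst e; simp [h0] at ht0

/-- The check of a word for a second point. -/
noncomputable def pairOK (e : ℕ × List ℕ) : Bool :=
  e.2.all (fun r => Nat.blt r 693 && com r 0) && Nat.beq (app e.2 e.1) second

theorem pair_ok : pairWords.all pairOK = true := by decide +kernel

theorem pair_cover : forallFrom (fun q => Nat.beq q 0 || com 0 q || pairWords.any fun e => Nat.beq e.1 q) 0 693 = true := by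
  decide +kernel

/-- Pairs of points that are not orthogonal are all alike. -/
theorem exists_aut_pair {p q : ℕ} (hp : p < 693) (hq : q < 693) (h : com p q = false) :
    ∃ σ, IsAut σ ∧ σ p = 0 ∧ σ q = second := by
  obtain ⟨σ, hσ, h0⟩ := exists_aut_zero hp
  have hc : com 0 (σ q) = false := by rw [← h0, hσ.com hp hq, h]
  have hk := forallFrom_elim pair_cover (Nat.zero_le (σ q)) (by have := hσ.lt q hq; omega)
  simp only [Bool.or_eq_true, Nat.beq_eq, List.any_eq_true] at hk
  rcases hk with (hk | hk) | ⟨e, he, heq⟩
  · rw [hk, com_self (by norm_num)] at hc; exact absurd hc (by simp)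
  · rw [hk] at hc; exact absurd hc (by simp)
  have hw := List.all_eq_true.1 pair_ok e he
  simp only [pairOK, Bool.and_eq_true, List.all_eq_true, Nat.beq_eq] at hw
  have hwlt : ∀ r ∈ e.2, r < 693 ∧ com r 0 = true := fun r hr => ⟨by simpa using (hw.1 r hr).1, (hw.1 r hr).2⟩
  refine ⟨_, (isAut_app fun r hr => (hwlt r hr).1).comp hσ, ?_, ?_⟩
  · show app e.2 (σ p) = 0
    rw [h0]
    exact app_fix (by norm_num) hwlt
  · show app e.2 (σ q) = second
    rw [← heq]
    exact hw.2

/-- The standard set is the common neighbourhood of the standard pair. -/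
noncomputable def commonOK (z : ℕ) : Bool :=
  (adj 0 z && adj second z) == memb z std.s

theorem common_ok : forallFrom commonOK 0 693 = true := by decide +kernel

theorem std_lt : std.s.all (fun z => Nat.blt z 693) = true := by decide +kernel

theorem mem_std {z : ℕ} : z ∈ std.s ↔ z < 693 ∧ adj 0 z = true ∧ adj second z = true := by
  constructor
  · intro h
    have hz : z < 693 := by simpa using List.all_eq_true.1 std_lt z h
    have hk := forallFrom_elim common_ok (Nat.zero_le z) (by omega)
    rw [commonOK, beq_iff_eq, memb_iff.2 h, Bool.and_eq_true] at hk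
    exact ⟨hz, hk⟩
  · rintro ⟨hz, h1, h2⟩
    have hk := forallFrom_elim common_ok (Nat.zero_le z) (by omega)
    rw [commonOK, beq_iff_eq, h1, h2] at hk
    exact memb_iff.1 hk.symm

/-- The third point on the line of the standard pair. -/
noncomputable def thirdOK (z : ℕ) : Bool :=
  Nat.beq z 0 || Nat.beq z second || Nat.beq z (mul second 0) ||
    std.s.any fun t => !(com z t)

theorem third_ok : forallFrom thirdOK 0 693 = true := by decide +kernel

/-- A point orthogonal to the common neighbours of a pair is on its line. -/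
theorem on_line {p q z : ℕ} (hp : p < 693) (hq : q < 693) (hz : z < 693) (hpq : com p q = false)
    (h : ∀ t < 693, adj p t = true → adj q t = true → com z t = true) : z = p ∨ z = q ∨ z = mul q p := by
  obtain ⟨σ, hσ, h0, h1⟩ := exists_aut_pair hp hq hpq
  have hk := forallFrom_elim third_ok (Nat.zero_le (σ z)) (by have := hσ.lt z hz; omega)
  simp only [thirdOK, Bool.or_eq_true, Nat.beq_eq, List.any_eq_true, Bool.not_eq_true'] at hk
  rcases hk with ((hk | hk) | hk) | ⟨t, ht, htz⟩
  · exact Or.inl (hσ.inj z hz p hp (hk.trans h0.symm))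
  · exact Or.inr (Or.inl (hσ.inj z hz q hq (hk.trans h1.symm)))
  · exact Or.inr (Or.inr (hσ.inj z hz _ (mul_lt hq hp) (by rw [hk, hσ.map q hq p hp, h0, h1])))
  · obtain ⟨htlt, a0, a1⟩ := mem_std.1 ht
    obtain ⟨u, hu, rfl⟩ := hσ.surj htlt
    have ha : ∀ x < 693, adj (σ x) (σ u) = true → adj x u = true := fun x hx h => by
      obtain ⟨e1, e2⟩ := adj_iff.1 h
      exact adj_iff.2 ⟨fun e => e1 (by rw [e]), by rwa [← hσ.com hx hu]⟩
    rw [hσ.com hz hu, h u hu (ha p hp (h0.symm ▸ a0)) (ha q hq (h1.symm ▸ a1))] at htz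
    exact absurd htz (by simp)

end CfsgLib.Recog.FiM22
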