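import Cfsg.Agent.Lib.Recog.FiM22.Rows

set_option autoImplicit false
set_option maxRecDepth 20000

/-!
An involution of PSU(6, 2) is a transvection or has a conjugate with which its product has order above three
(owner: helper13).
-/

namespace CfsgLib.Recog.FiM22

open CfsgLib.Recog.SporBound.Fi22U6
open scoped Matrix

/-- The form. -/
noncomputable abbrev hf (x y : Fin 6 → F4) : F4 := Cfsg.hermForm 6 F4 2 x y

theorem f4_add_self : ∀ x : F4, x + x = 0 := by decide +kernel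

theorem f4_sq_add : ∀ x y : F4, (x + y) ^ 2 = x ^ 2 + y ^ 2 := by decide +kernel

theorem hf_add_left (a b v : Fin 6 → F4) : hf (a + b) v = hf a v + hf b v := by
  simp only [hf, Cfsg.hermForm, Pi.add_apply, add_mul, Finset.sum_add_distrib]

theorem hf_smul_left (c : F4) (a v : Fin 6 → F4) : hf (c • a) v = c * hf a v := by
  simp only [hf, Cfsg.hermForm, Pi.smul_apply, smul_eq_mul, Finset.mul_sum, mul_assoc]

theorem hf_add_right (v a b : Fin 6 → F4) : hf v (a + b) = hf v a + hf v b := by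
  simp only [hf, Cfsg.hermForm, Pi.add_apply, f4_sq_add, mul_add, Finset.sum_add_distrib]

theorem hf_smul_right (c : F4) (v a : Fin 6 → F4) : hf v (c • a) = c ^ 2 * hf v a := by
  simp only [hf, Cfsg.hermForm, Pi.smul_apply, smul_eq_mul, mul_pow, Finset.mul_sum]
  exact Finset.sum_congr rfl fun i _ => by ring

theorem hf_conj (x y : Fin 6 → F4) : hf y x = hf x y ^ 2 := by
  have key : ∀ a b : F4, (a * b ^ 2) ^ 2 = b * a ^ 2 := by decide +kernel
  simp only [hf, Cfsg.hermForm, Fin.sum_univ_six, f4_sq_add, key]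

/-- A central element moves no isotropic point. -/
theorem center_fix {z : SU6} (hz : z ∈ Subgroup.center SU6) {v : Fin 6 → F4} (hv : hf v v = 0) (hv0 : v ≠ 0) :
    ∃ l : F4, mat z *ᵥ v = l • v := by
  have h1 := tsu_conj z hv
  rw [← (Subgroup.mem_center_iff.1 hz) (tsu v), mul_inv_cancel_right] at h1
  obtain ⟨x, hx⟩ := exists_herm_one hv0
  have hzv : hf (mat z *ᵥ v) (mat z *ᵥ v) = 0 := (form_eq z v v).trans hv
  have e := congrArg (fun A => mat A *ᵥ x) h1
  simp only [tsu_apply hv, tsu_apply hzv, hx, one_smul] at e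
  have e' := (add_left_cancel e).symm
  by_cases h0 : hf x (mat z *ᵥ v) = 0
  · exact absurd (by rw [e'.symm, show Cfsg.hermForm 6 F4 2 x (mat z *ᵥ v) = 0 from h0, zero_smul]) hv0
  · exact ⟨(hf x (mat z *ᵥ v))⁻¹, (inv_smul_smul₀ h0 _).symm.trans (congrArg _ e')⟩

/-- The four dimensional model form. -/
def h4 (x y : Fin 4 → F4) : F4 := x 0 * y 2 ^ 2 + x 2 * y 0 ^ 2 + x 1 * y 3 ^ 2 + x 3 * y 1 ^ 2

/-- A transvection of the model. -/
def tr4 (u x : Fin 4 → F4) : Fin 4 → F4 := fun i => x i + h4 x u * u i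

/-- The involution of the model. -/
def t4 (x : Fin 4 → F4) : Fin 4 → F4 := ![x 0 + x 2, x 1 + x 3, x 2, x 3]

/-- The first of the two conjugating vectors. -/
def ua : Fin 4 → F4 := ![0, 0, 0, 1]

/-- The second of the two conjugating vectors. -/
def ub : Fin 4 → F4 := ![0, 0, 1, 1]

/-- The product of the involution with its conjugate, in the model. -/
def p4 (x : Fin 4 → F4) : Fin 4 → F4 := t4 (tr4 ua (tr4 ub (t4 (tr4 ub (tr4 ua x)))))

/-- The first basis vector. -/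
def e0 : Fin 4 → F4 := ![1, 0, 0, 0]

theorem p4_vals : p4 (p4 e0) = ![1, 0, 1, 1] ∧ p4 (p4 (p4 e0)) = ![0, 1, 1, 1] := by
  constructor <;> funext i <;> fin_cases i <;> decide +kernel

theorem two_dim (t : SU6) {v₁ v₂ w₁ w₂ : Fin 6 → F4} (hv11 : hf v₁ v₁ = 0) (hv12 : hf v₁ v₂ = 0)
    (hv22 : hf v₂ v₂ = 0) (hw11 : hf w₁ w₁ = 0) (hw12 : hf w₁ w₂ = 0) (hw22 : hf w₂ w₂ = 0)
    (h11 : hf v₁ w₁ = 1) (h22 : hf v₂ w₂ = 1) (h12 : hf v₁ w₂ = 0) (h21 : hf v₂ w₁ = 0)
    (t1 : mat t *ᵥ v₁ = v₁) (t2 : mat t *ᵥ v₂ = v₂) (t3 : mat t *ᵥ w₁ = w₁ + v₁) (t4' : mat t *ᵥ w₂ = w₂ + v₂) :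
    ∃ y : SU6, ¬ (((t : Q6) * ((y : Q6) * t * (y : Q6)⁻¹)) ^ 2 = 1 ∨
      ((t : Q6) * ((y : Q6) * t * (y : Q6)⁻¹)) ^ 3 = 1) := by
  let φ : (Fin 4 → F4) → Fin 6 → F4 := fun x => x 0 • v₁ + x 1 • v₂ + x 2 • w₁ + x 3 • w₂
  have hs : ∀ {x y : Fin 6 → F4}, hf x y = 0 → hf y x = 0 := fun h => by rw [hf_conj, h]; decide
  have hs1 : ∀ {x y : Fin 6 → F4}, hf x y = 1 → hf y x = 1 := fun h => by rw [hf_conj, h]; decide
  have hg : ∀ x y, hf (φ x) (φ y) = h4 x y := by
    intro x y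
    simp only [φ, hf_add_left, hf_add_right, hf_smul_left, hf_smul_right, hv11, hv12, hv22, hw11, hw12, hw22,
      hs hv12, hs hw12, h11, h22, h12, h21, hs1 h11, hs1 h22, hs h12, hs h21, h4]
    ring
  have ht : ∀ x, mat t *ᵥ φ x = φ (t4 x) := fun x => by
    simp only [φ, Matrix.mulVec_add, Matrix.mulVec_smul, t1, t2, t3, t4', t4, Matrix.cons_val_zero,
      Matrix.cons_val_one, Matrix.cons_val, smul_add, add_smul]
    abel
  have htr : ∀ u, h4 u u = 0 → ∀ x, mat (tsu (φ u)) *ᵥ φ x = φ (tr4 u x) := fun u hu x => by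
    rw [tsu_apply (by rw [← hu]; exact hg u u), show Cfsg.hermForm 6 F4 2 (φ x) (φ u) = h4 x u from hg x u]
    simp only [φ, tr4, add_smul, smul_add, smul_smul]
    abel
  have ia : h4 ua ua = 0 := by decide +kernel
  have ib : h4 ub ub = 0 := by decide +kernel
  have hua : hf (φ ua) (φ ua) = 0 := by rw [hg, ia]
  have hub : hf (φ ub) (φ ub) = 0 := by rw [hg, ib]
  have sq : ∀ v, hf v v = 0 → (tsu v)⁻¹ = tsu v := fun v hv => by
    refine inv_eq_of_mul_eq_one_right (eq_of_mulVec fun x => ?_)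
    rw [mat_mul, ← Matrix.mulVec_mulVec, tsu_apply hv, tsu_apply hv, mat_one, Matrix.one_mulVec]
    rw [show Cfsg.hermForm 6 F4 2 (x + Cfsg.hermForm 6 F4 2 x v • v) v = Cfsg.hermForm 6 F4 2 x v by
      rw [show Cfsg.hermForm 6 F4 2 (x + Cfsg.hermForm 6 F4 2 x v • v) v = hf (x + hf x v • v) v from rfl,
        hf_add_left, hf_smul_left, hv, mul_zero, add_zero], add_assoc, ← add_smul, f4_add_self, zero_smul, add_zero]
  set P : SU6 := t * (tsu (φ ua) * tsu (φ ub) * t * (tsu (φ ua) * tsu (φ ub))⁻¹) with hP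
  have hPx : ∀ x, mat P *ᵥ φ x = φ (p4 x) := fun x => by
    rw [hP, mul_inv_rev, sq _ hua, sq _ hub]
    simp only [mat_mul, ← Matrix.mulVec_mulVec, ht, htr ua ia, htr ub ib]
    rfl
  have hcoord : ∀ x, hf (φ x) v₁ = x 2 := fun x => by
    simp only [φ, hf_add_left, hf_smul_left, hv11, hs hv12, hs1 h11, hs h12]
    ring
  refine ⟨tsu (φ ua) * tsu (φ ub), fun h => ?_⟩
  have hPQ : (t : Q6) * (((tsu (φ ua) * tsu (φ ub) : SU6) : Q6) * t * ((tsu (φ ua) * tsu (φ ub) : SU6) : Q6)⁻¹) =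
      (P : Q6) := by
    rw [hP]; rfl
  rw [hPQ, ← QuotientGroup.mk_pow, ← QuotientGroup.mk_pow, QuotientGroup.eq_one_iff,
    QuotientGroup.eq_one_iff] at h
  have he : φ e0 = v₁ := by simp [φ, e0]
  have hv10 : v₁ ≠ 0 := fun e => by
    rw [e] at h11
    simp [hf, Cfsg.hermForm] at h11
  obtain ⟨c2, c3⟩ := p4_vals
  have bad : ∀ z : Fin 4 → F4, z 2 = 1 → ∀ Z : SU6, Z ∈ Subgroup.center SU6 → mat Z *ᵥ φ e0 = φ z → False := by
    intro z hz Z hZ e
    obtain ⟨l, hl⟩ := center_fix hZ hv11 hv10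
    rw [← he] at hl
    have := congrArg (fun w => hf w v₁) (e.symm.trans hl)
    simp only [hcoord, hf_smul_left, e0, hz, Matrix.cons_val, mul_zero] at this
    exact one_ne_zero this
  rcases h with h | h
  · refine bad (p4 (p4 e0)) (by rw [c2]; rfl) _ h ?_
    rw [pow_two, mat_mul, ← Matrix.mulVec_mulVec, hPx, hPx]
  · refine bad (p4 (p4 (p4 e0))) (by rw [c3]; rfl) _ h ?_
    rw [pow_succ, pow_two, mat_mul, mat_mul, ← Matrix.mulVec_mulVec, ← Matrix.mulVec_mulVec, hPx, hPx, hPx]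

/-- An involution of SU(6, 2) is a transvection or has a bad conjugate. -/
theorem su_involution {t : SU6} (h2 : t * t = 1) (h1 : t ≠ 1) :
    (∃ v, v ≠ 0 ∧ hf v v = 0 ∧ t = tsu v) ∨
      ∃ y : SU6, ¬ (((t : Q6) * ((y : Q6) * t * (y : Q6)⁻¹)) ^ 2 = 1 ∨
        ((t : Q6) * ((y : Q6) * t * (y : Q6)⁻¹)) ^ 3 = 1) := by
  let N : (Fin 6 → F4) → Fin 6 → F4 := fun x => mat t *ᵥ x + x
  have hdd : ∀ x : Fin 6 → F4, x + x = 0 := fun x => funext fun i => f4_add_self (x i)
  have htt : ∀ x, mat t *ᵥ (mat t *ᵥ x) = x := fun x => by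
    rw [Matrix.mulVec_mulVec, ← mat_mul, h2, mat_one, Matrix.one_mulVec]
  have tN : ∀ x, mat t *ᵥ x = x + N x := fun x => by
    rw [show x + N x = x + (mat t *ᵥ x + x) from rfl, add_comm (mat t *ᵥ x) x, ← add_assoc, hdd, zero_add]
  have hNN : ∀ x, N (N x) = 0 := fun x => by
    simp only [N, Matrix.mulVec_add, htt]
    rw [add_comm x (mat t *ᵥ x), hdd]
  have hadj : ∀ x y, hf (N x) y = hf x (N y) := fun x y => by
    simp only [N, hf_add_left, hf_add_right]
    congr 1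
    rw [← (show hf (mat t *ᵥ (mat t *ᵥ x)) (mat t *ᵥ y) = hf (mat t *ᵥ x) y from form_eq t _ _), htt]
  have N_add : ∀ x y, N (x + y) = N x + N y := fun x y => by simp only [N, Matrix.mulVec_add]; abel
  have N_smul : ∀ (c : F4) x, N (c • x) = c • N x := fun c x => by simp only [N, Matrix.mulVec_smul, smul_add]
  let β : (Fin 6 → F4) → (Fin 6 → F4) → F4 := fun x y => hf (N x) y
  have β_conj : ∀ x y, β y x = β x y ^ 2 := fun x y => by
    show hf (N y) x = hf (N x) y ^ 2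
    rw [hadj, hf_conj (N x) y]
  have nondeg : ∀ z, N z ≠ 0 → ∃ y, β z y ≠ 0 := fun z hz => by
    obtain ⟨y, hy⟩ := exists_herm_one hz
    exact ⟨y, fun e => by
      have : hf y (N z) = β z y ^ 2 := hf_conj (N z) y
      rw [e, show hf y (N z) = 1 from hy] at this
      exact one_ne_zero (this.trans (by decide))⟩
  have idem : ∀ x : Fin 6 → F4, β x x ≠ 0 → β x x = 1 := fun x hx =>
    (by decide +kernel : ∀ a : F4, a ≠ 0 → a = a ^ 2 → a = 1) _ hx (β_conj x x)
  have polar : ∀ a b : F4, (∀ c : F4, c ^ 2 * a + c * b = 0) → a = 0 := by decide +kernel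
  have exists_diag : ∀ W : (Fin 6 → F4) → Prop, (∀ a b, W a → W b → W (a + b)) → (∀ (c : F4) a, W a → W (c • a)) →
      (∃ z y, W z ∧ W y ∧ β z y ≠ 0) → ∃ x, W x ∧ β x x = 1 := by
    rintro W hA hS ⟨z, y, hz, hy, hne⟩
    by_contra hno
    have hall : ∀ x, W x → β x x = 0 := fun x hx => by_contra fun e => hno ⟨x, hx, idem x e⟩
    refine hne (polar (β z y) (β y z) fun c => ?_)
    have := hall _ (hA _ _ hz (hS c _ hy))
    rw [add_comm]
    simpa only [β, N_add, N_smul, hf_add_left, hf_add_right, hf_smul_left, hf_smul_right,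
      show hf (N z) z = 0 from hall z hz, show hf (N y) y = 0 from hall y hy, mul_zero, add_zero, zero_add] using this
  obtain ⟨x₁, -, hx1⟩ := exists_diag (fun _ => True) (fun _ _ _ _ => trivial) (fun _ _ _ => trivial) (by
    obtain ⟨z, hz⟩ : ∃ z, N z ≠ 0 := by
      by_contra h
      push Not at h
      exact h1 (eq_of_mulVec fun x => by rw [tN, h, add_zero, mat_one, Matrix.one_mulVec])
    obtain ⟨y, hy⟩ := nondeg z hz
    exact ⟨z, y, trivial, trivial, hy⟩)
  have proj : ∀ x, β (x + β x x₁ • x₁) x₁ = 0 := fun x => by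
    simp only [β, N_add, N_smul, hf_add_left, hf_smul_left]
    rw [show hf (N x₁) x₁ = 1 from hx1, mul_one, f4_add_self]
  set v₁ := N x₁ with hv1
  have hv11 : hf v₁ v₁ = 0 := by rw [hv1, hadj, hNN]; simp [hf, Cfsg.hermForm]
  by_cases hall : ∀ z, β z x₁ = 0 → N z = 0
  · left
    refine ⟨v₁, fun e => ?_, hv11, eq_of_mulVec fun x => ?_⟩
    · rw [show β x₁ x₁ = hf v₁ x₁ from rfl, e] at hx1
      simp [hf, Cfsg.hermForm] at hx1
    · rw [tN, tsu_apply hv11]
      congr 1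
      have h3 := hall _ (proj x)
      rw [N_add, N_smul, ← hv1] at h3
      rw [show β x x₁ = hf x v₁ from hadj x x₁] at h3
      exact (add_eq_zero_iff_eq_neg.1 h3).trans (neg_eq_of_add_eq_zero_right (hdd _))
  · right
    push Not at hall
    obtain ⟨z, hz0, hzN⟩ := hall
    obtain ⟨x₂, hx21, hx22⟩ := exists_diag (fun x => β x x₁ = 0)
      (fun a b ha hb => by simp only [β, N_add, hf_add_left] at *; rw [ha, hb, add_zero])
      (fun c a ha => by simp only [β, N_smul, hf_smul_left] at *; rw [ha, mul_zero]) (by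
      obtain ⟨y, hy⟩ := nondeg z hzN
      refine ⟨z, y + β y x₁ • x₁, hz0, proj y, ?_⟩
      simp only [β, hf_add_right, hf_smul_right]
      rw [show hf (N z) x₁ = 0 from hz0, mul_zero, add_zero]
      exact hy)
    set v₂ := N x₂ with hv2
    set a := hf x₁ x₁ with ha
    set w₁ := x₁ + (a * F4.om) • v₁ with hw1
    set d := hf x₂ w₁ with hd
    set x₂' := x₂ + d • v₁ with hx2'
    set b := hf x₂' x₂' with hb
    set w₂ := x₂' + (b * F4.om) • v₂ with hw2
    have e11 : hf v₁ x₁ = 1 := hx1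
    have e22 : hf v₂ x₂ = 1 := hx22
    have e21 : hf v₂ x₁ = 0 := hx21
    have e12 : hf v₁ x₂ = 0 := by rw [show hf v₁ x₂ = β x₁ x₂ from rfl, β_conj x₂ x₁, hx21]; decide
    have hs : ∀ {x y : Fin 6 → F4}, hf x y = 0 → hf y x = 0 := fun h => by rw [hf_conj, h]; decide
    have hs1 : ∀ {x y : Fin 6 → F4}, hf x y = 1 → hf y x = 1 := fun h => by rw [hf_conj, h]; decide
    have hvv : hf v₁ v₂ = 0 := by rw [hv1, hv2, hadj, hNN]; simp [hf, Cfsg.hermForm]
    have hv22 : hf v₂ v₂ = 0 := by rw [hv2, hadj, hNN]; simp [hf, Cfsg.hermForm]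
    have key : ∀ a : F4, a = a ^ 2 → a + (a * F4.om) ^ 2 + a * F4.om = 0 := by decide +kernel
    have hw11 : hf w₁ w₁ = 0 := by
      simp only [hw1, hf_add_left, hf_add_right, hf_smul_left, hf_smul_right, hv11, e11, hs1 e11, mul_one, mul_zero,
        add_zero, ← ha]
      linear_combination key a (hf_conj x₁ x₁)
    have h11 : hf v₁ w₁ = 1 := by
      simp only [hw1, hf_add_right, hf_smul_right, hv11, e11, mul_zero, add_zero]
    have h21 : hf v₂ w₁ = 0 := by
      simp only [hw1, hf_add_right, hf_smul_right, hs hvv, e21, mul_zero, add_zero]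
    have hx'w : hf x₂' w₁ = 0 := by
      simp only [hx2', hf_add_left, hf_smul_left, h11, mul_one, ← hd, f4_add_self]
    have hx'1 : hf v₁ x₂' = 0 := by
      simp only [hx2', hf_add_right, hf_smul_right, e12, hv11, mul_zero, add_zero]
    have hx'2 : hf v₂ x₂' = 1 := by
      simp only [hx2', hf_add_right, hf_smul_right, e22, hs hvv, mul_zero, add_zero]
    have hw22 : hf w₂ w₂ = 0 := by
      simp only [hw2, hf_add_left, hf_add_right, hf_smul_left, hf_smul_right, hv22, hx'2, hs1 hx'2, mul_one,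
        mul_zero, add_zero, ← hb]
      linear_combination key b (hf_conj x₂' x₂')
    have h22 : hf v₂ w₂ = 1 := by
      simp only [hw2, hf_add_right, hf_smul_right, hv22, hx'2, mul_zero, add_zero]
    have h12 : hf v₁ w₂ = 0 := by
      simp only [hw2, hf_add_right, hf_smul_right, hvv, hx'1, mul_zero, add_zero]
    have hw12 : hf w₁ w₂ = 0 := by
      simp only [hw2, hf_add_right, hf_smul_right, hs hx'w, hs h21, mul_zero, add_zero]
    have N0 : ∀ x, mat t *ᵥ N x = N x := fun x => by rw [tN (N x), hNN, add_zero]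
    refine two_dim t hv11 hvv hv22 hw11 hw12 hw22 h11 h22 h12 h21 (N0 _) (N0 _) ?_ ?_
    · rw [tN, hw1, N_add, N_smul, hv1, hNN, smul_zero, add_zero]
    · rw [tN, hw2, hx2', N_add, N_add, N_smul, N_smul, hv2, hv1, hNN, hNN, smul_zero, smul_zero, add_zero, add_zero]

/-- An involution of PSU(6, 2) is a transvection or has a bad conjugate. -/
theorem involution_cases {x : Q6} (h2 : x * x = 1) (h1 : x ≠ 1) :
    (∃ r < 693, x = T r) ∨ ∃ y : Q6, ¬ ((x * (y * x * y⁻¹)) ^ 2 = 1 ∨ (x * (y * x * y⁻¹)) ^ 3 = 1) := by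
  obtain ⟨g, rfl⟩ := QuotientGroup.mk_surjective x
  rw [← QuotientGroup.mk_mul, QuotientGroup.eq_one_iff] at h2
  have hc : Nat.card (Subgroup.center SU6) = 3 := by
    rw [CfsgLib.Classical.Herm.card_center_SU (q := 2) F4.card 6 (by norm_num)]
    rfl
  have h3 : (g * g) ^ 3 = 1 := by
    have := pow_card_eq_one' (x := (⟨g * g, h2⟩ : Subgroup.center SU6))
    rw [hc] at this
    exact congrArg Subtype.val this
  have hg : ((g * (g * g) : SU6) : Q6) = (g : Q6) := by
    rw [QuotientGroup.mk_mul, (QuotientGroup.eq_one_iff _).2 h2, mul_one]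
  set t := g * (g * g) with ht
  have ht2 : t * t = 1 := by rw [ht, ← h3, pow_three]; simp only [mul_assoc]
  have ht1 : t ≠ 1 := fun e => h1 (by rw [← hg, e]; rfl)
  rcases su_involution ht2 ht1 with ⟨v, hv0, hv, e⟩ | ⟨y, hy⟩
  · left
    obtain ⟨r, hr, l, hl, rfl⟩ := point_of hv0 hv
    exact ⟨r, hr, by rw [← hg, e, tsu_smul (dot_iso hr) hl]; rfl⟩
  · exact Or.inr ⟨y, by rw [← hg]; exact hy⟩

end CfsgLib.Recog.FiM22
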