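import Cfsg.Agent.Lib.Recog.FiM22.Involution
import Cfsg.Agent.Lib.Recog.FiM22.Geometry
import Cfsg.Agent.Lib.ThreeTrans.RankThree
import Cfsg.Prelude.Def_FischerSpaces

set_option autoImplicit false
set_option maxRecDepth 20000

/-!
In a primitive class of 3-transpositions with centraliser section PSU(6, 2) the members commuting with one member
correspond to the 693 points (owner: helper13).
-/

namespace CfsgLib.Recog.FiM22

open Cfsg CfsgLib.ThreeTrans

universe u

variable {G : Type u} [Group G]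

/-- The members other than `a` commuting with `a`. -/
abbrev nbrs (D : Set G) (a : G) : Set G := {y : G | y ∈ D ∧ y ≠ a ∧ Commute a y}

/-- The situation: a primitive centre-free group of 3-transpositions, one member, and a central extension of
PSU(6, 2) generated by the members commuting with it. -/
structure Base (D : Set G) (a : G) where
  grp : IsThreeTranspositionGroup D
  prim : IsPrimitiveUnderConj D
  centre : Subgroup.center G = ⊥
  mem : a ∈ D
  proj : ↥(Subgroup.closure (nbrs D a)) →* Q6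
  surj : Function.Surjective proj
  kerLe : proj.ker ≤ Subgroup.center ↥(Subgroup.closure (nbrs D a))

namespace Base

variable [Finite G] {D : Set G} {a : G} (B : Base D a)
include B

theorem nbrs_nonempty : (nbrs D a).Nonempty := by
  by_contra h
  have hbot : Subgroup.closure (nbrs D a) = ⊥ := by
    rw [Set.not_nonempty_iff_eq_empty.1 h, Subgroup.closure_empty]
  obtain ⟨x, hx⟩ := B.surj (T 0)
  have : x = 1 := Subtype.ext (Subgroup.mem_bot.1 (hbot ▸ x.2))
  exact T_ne_one (r := 0) (by norm_num) (by rw [← hx, this, map_one])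

theorem width : ∃ p ∈ D, ∃ q ∈ D, p ≠ q ∧ Commute p q :=
  let ⟨y, hy⟩ := B.nbrs_nonempty
  ⟨a, B.mem, y, hy.1, hy.2.1.symm, hy.2.2⟩

theorem setting : RankThree.Setting D :=
  haveI : Fact (Nat.Prime 2) := ⟨Nat.prime_two⟩
  ⟨class_of_primitive B.grp B.prim, B.prim.2.1, B.width, B.prim, pCore_le_center B.grp B.prim B.width Nat.prime_two⟩

omit [Finite G] in
theorem set3 : IsThreeTranspositionSet D := B.grp.1

omit [Finite G] in
theorem conj_mem_nbrs {h : G} (hh : h ∈ Subgroup.closure (nbrs D a)) {e : G} (he : e ∈ nbrs D a) :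
    h * e * h⁻¹ ∈ nbrs D a := by
  have hc : Commute a h := RankThree.commute_closure (fun _ hz => hz.2.2) hh
  have ha : h * a * h⁻¹ = a := by rw [← hc.eq, mul_inv_cancel_right]
  refine ⟨B.grp.2.1 h e he.1, fun eq => he.2.1 ?_, ?_⟩
  · exact mul_left_cancel (mul_right_cancel (eq.trans ha.symm))
  · have := (commute_conj_iff (g := h)).2 he.2.2
    rwa [ha] at this

/-- The image of a member. -/
noncomputable def img {e : G} (he : e ∈ nbrs D a) : Q6 := B.proj ⟨e, Subgroup.subset_closure he⟩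

theorem img_is_T {e : G} (he : e ∈ nbrs D a) : ∃ r < 693, B.img he = T r := by
  have hsq : B.img he * B.img he = 1 := by
    rw [img, ← map_mul, show (⟨e, _⟩ : ↥(Subgroup.closure (nbrs D a))) * ⟨e, Subgroup.subset_closure he⟩ = 1 from
      Subtype.ext (mul_self B.set3 he.1), map_one]
  have hne : B.img he ≠ 1 := by
    intro h1
    have hall : ∀ x : ↥(Subgroup.closure (nbrs D a)), B.proj x = 1 := by
      rintro ⟨x, hx⟩
      induction hx using Subgroup.closure_induction with
      | mem y hy =>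
        obtain ⟨g, hg, rfl⟩ := B.setting.commute_comp B.mem he.1 he.2.1 he.2.2 hy.1 hy.2.1 hy.2.2
        show B.proj (⟨g, hg⟩ * ⟨e, Subgroup.subset_closure he⟩ * ⟨g, hg⟩⁻¹) = 1
        rw [map_mul, map_mul, map_inv, show B.proj ⟨e, _⟩ = 1 from h1, mul_one, mul_inv_cancel]
      | one => exact map_one _
      | mul y z hy hz iy iz =>
        show B.proj (⟨y, hy⟩ * ⟨z, hz⟩) = 1
        rw [map_mul, iy, iz, mul_one]
      | inv y hy iy =>
        show B.proj ⟨y, hy⟩⁻¹ = 1
        rw [map_inv, iy, inv_one]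
    obtain ⟨x, hx⟩ := B.surj (T 0)
    exact T_ne_one (r := 0) (by norm_num) (by rw [← hx, hall])
  rcases involution_cases hsq hne with h | ⟨y, hy⟩
  · exact h
  exfalso
  obtain ⟨⟨h, hh⟩, rfl⟩ := B.surj y
  refine hy ?_
  have hmem := B.conj_mem_nbrs hh he
  have : ∀ n, (e * (h * e * h⁻¹)) ^ n = 1 →
      (B.img he * (B.proj ⟨h, hh⟩ * B.img he * (B.proj ⟨h, hh⟩)⁻¹)) ^ n = 1 := fun n hn => by
    simp only [img]
    rw [← map_inv, ← map_mul, ← map_mul, ← map_mul, ← map_pow]
    rw [show (⟨e, Subgroup.subset_closure he⟩ * (⟨h, hh⟩ * ⟨e, Subgroup.subset_closure he⟩ * ⟨h, hh⟩⁻¹) :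
      ↥(Subgroup.closure (nbrs D a))) ^ n = 1 from Subtype.ext hn, map_one]
  rcases B.set3.2 e he.1 _ hmem.1 with h' | h'
  · exact Or.inl (this 2 h')
  · exact Or.inr (this 3 h')

theorem T_is_img {r : ℕ} (hr : r < 693) : ∃ (e : G) (he : e ∈ nbrs D a), B.img he = T r := by
  let X : ℕ → Prop := fun r => ∃ (e : G) (he : e ∈ nbrs D a), B.img he = T r
  have hstep : ∀ s < 693, ∀ t < 693, X t → X (mul s t) := by
    rintro s hs t ht ⟨e, he, heq⟩
    obtain ⟨⟨h, hh⟩, hx⟩ := B.surj (T s)
    refine ⟨h * e * h⁻¹, B.conj_mem_nbrs hh he, ?_⟩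
    rw [← T_conj hs ht, ← hx, ← heq, img, img, ← map_inv, ← map_mul, ← map_mul]
    rfl
  have happ : ∀ (w : List ℕ), (∀ s ∈ w, s < 693) → ∀ t < 693, X t → X (app w t) := by
    intro w
    induction w with
    | nil => exact fun _ t _ h => h
    | cons s w ih =>
      intro hw t ht h
      have hw' : ∀ s ∈ w, s < 693 := fun x hx => hw x (List.mem_cons_of_mem _ hx)
      exact hstep s (hw s List.mem_cons_self) _ ((isAut_app hw').lt t ht) (ih hw' t ht h)
  have hback : ∀ (w : List ℕ), (∀ s ∈ w, s < 693) → ∀ t < 693, X (app w t) → X t := by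
    intro w
    induction w with
    | nil => exact fun _ t _ h => h
    | cons s w ih =>
      intro hw t ht h
      have hw' : ∀ s ∈ w, s < 693 := fun x hx => hw x (List.mem_cons_of_mem _ hx)
      refine ih hw' t ht ?_
      have hs := hw s List.mem_cons_self
      have hlt := (isAut_app hw').lt t ht
      have := hstep s hs _ (mul_lt hs hlt) h
      rwa [mul_mul_self hs hlt] at this
  obtain ⟨e, he⟩ := B.nbrs_nonempty
  obtain ⟨r₀, hr₀, heq⟩ := B.img_is_T he
  obtain ⟨hx, hh, hword⟩ := word_spec hr₀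
  have hx0 : X (gensL.getD (wordX r₀) 0) := by
    refine hback ((wordH r₀).map fun j => gensL.getD j 0) ?_ _ (gens_lt hx) ?_
    · intro s hs
      obtain ⟨j, hj, rfl⟩ := List.mem_map.1 hs
      exact gens_lt (hh j hj)
    · rw [hword]; exact ⟨e, he, heq⟩
  have h0 : X 0 := by
    have := happ _ (zero_spec hx).1 _ (gens_lt hx) hx0
    rwa [(zero_spec hx).2] at this
  refine point_induction (P := X) (fun j hj => ?_) (fun j hj r hr h => hstep _ (gens_lt hj) r hr h) hr
  refine hback _ (zero_spec hj).1 _ (gens_lt hj) ?_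
  rw [(zero_spec hj).2]
  exact h0

theorem commute_of_img_eq {e f : G} (he : e ∈ nbrs D a) (hf : f ∈ nbrs D a) (h : B.img he = B.img hf) :
    Commute e f ∧ ∀ y ∈ Subgroup.closure (nbrs D a), Commute (e * f) y := by
  have hk : (⟨e, Subgroup.subset_closure he⟩ : ↥(Subgroup.closure (nbrs D a))) *
      ⟨f, Subgroup.subset_closure hf⟩ ∈ Subgroup.center _ := B.kerLe (by
    rw [MonoidHom.mem_ker, map_mul, show B.proj ⟨e, _⟩ = B.proj ⟨f, _⟩ from h, ← map_mul,
      show (⟨f, _⟩ : ↥(Subgroup.closure (nbrs D a))) * ⟨f, Subgroup.subset_closure hf⟩ = 1 from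
        Subtype.ext (mul_self B.set3 hf.1), map_one])
  have hz : ∀ y ∈ Subgroup.closure (nbrs D a), Commute (e * f) y := fun y hy =>
    (congrArg Subtype.val (Subgroup.mem_center_iff.1 hk ⟨y, hy⟩)).symm
  refine ⟨?_, hz⟩
  have := (hz e (Subgroup.subset_closure he)).eq
  rw [mul_self_assoc B.set3 he.1] at this
  show e * f = f * e
  calc e * f = (e * f * e) * e := by rw [mul_assoc (e * f), mul_self B.set3 he.1, mul_one]
    _ = f * e := by rw [this]

theorem img_commute {e f : G} (he : e ∈ nbrs D a) (hf : f ∈ nbrs D a) :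
    Commute e f ↔ Commute (B.img he) (B.img hf) := by
  refine ⟨fun h => ?_, fun h => ?_⟩
  · exact (show Commute (⟨e, Subgroup.subset_closure he⟩ : ↥(Subgroup.closure (nbrs D a)))
      ⟨f, Subgroup.subset_closure hf⟩ from Subtype.ext h.eq).map B.proj
  · by_contra hn
    have h3 := pow_three B.set3 he.1 hf.1 hn
    have e3 : (B.img he * B.img hf) ^ 3 = 1 := by
      rw [img, img, ← map_mul, ← map_pow,
        show (⟨e, _⟩ * ⟨f, _⟩ : ↥(Subgroup.closure (nbrs D a))) ^ 3 = 1 from Subtype.ext h3, map_one]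
    have sq : ∀ {x : G} (hx : x ∈ nbrs D a), B.img hx * B.img hx = 1 := fun hx => by
      rw [img, ← map_mul, show (⟨_, _⟩ : ↥(Subgroup.closure (nbrs D a))) * ⟨_, Subgroup.subset_closure hx⟩ = 1 from
        Subtype.ext (mul_self B.set3 hx.1), map_one]
    have e2 : (B.img he * B.img hf) ^ 2 = 1 := by
      rw [h.mul_pow, pow_two, pow_two, sq he, sq hf, mul_one]
    rw [pow_succ, e2, one_mul] at e3
    have : B.img he = B.img hf := by
      rw [eq_inv_of_mul_eq_one_left e3]
      exact inv_eq_of_mul_eq_one_right (sq hf)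
    exact hn (B.commute_of_img_eq he hf this).1

omit [Finite G] in
theorem eq_one_of_commute [Finite G] {u b : G} (ha : Commute u a) (h : ∀ y ∈ nbrs D a, Commute u y) (hb : b ∈ D)
    (hab : ¬ Commute a b) (hub : Commute u b) : u = 1 := by
  have hle : Subgroup.closure {y : G | y ∈ D ∧ Commute a y} ≤
      Subgroup.closure {y : G | y ∈ D ∧ Commute u y} := by
    refine Subgroup.closure_mono fun y hy => ⟨hy.1, ?_⟩
    by_cases e : y = a
    · exact e ▸ ha
    · exact h y ⟨hy.1, e, hy.2⟩
  have hD' : IsDSubgroup D (Subgroup.closure {y : G | y ∈ D ∧ Commute u y}) :=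
    le_antisymm ((Subgroup.closure_le _).2 fun y hy => hy.2)
      (Subgroup.closure_mono fun y hy => ⟨hy.1, Subgroup.subset_closure hy⟩)
  rcases closure_commuting_maximal B.grp B.prim B.width B.mem hD' hle with e | e
  · exfalso
    refine hab ?_
    have : b ∈ Subgroup.closure {y : G | y ∈ D ∧ Commute a y} := e ▸ Subgroup.subset_closure ⟨hb, hub⟩
    exact RankThree.commute_closure (fun _ hz => hz.2) this
  · have hc : u ∈ Subgroup.center G := by
      rw [Subgroup.mem_center_iff]
      intro g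
      exact (RankThree.commute_closure (fun _ hz => hz.2) (e ▸ Subgroup.mem_top g : g ∈ _)).eq.symm
    rwa [B.centre, Subgroup.mem_bot] at hc

theorem exists_swap {e : G} (he : e ∈ nbrs D a) : ∃ g : G, g * a * g⁻¹ = e ∧ g * e * g⁻¹ = a := by
  obtain ⟨g₁, hg₁⟩ := B.prim.1 a B.mem e he.1
  have h1 : g₁ * e * g₁⁻¹ ∈ D := B.grp.2.1 g₁ e he.1
  have h2 : g₁ * e * g₁⁻¹ ≠ e := fun h => he.2.1
    (mul_left_cancel (mul_right_cancel (h.trans hg₁.symm)))
  have h3 : Commute e (g₁ * e * g₁⁻¹) := by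
    have := (commute_conj_iff (g := g₁)).2 he.2.2
    rwa [hg₁] at this
  obtain ⟨k, hk, hke⟩ := B.setting.commute_transitive he.1 h1 h2 h3 B.mem he.2.1.symm he.2.2.symm
  refine ⟨k * g₁, ?_, ?_⟩
  · rw [show k * g₁ * a * (k * g₁)⁻¹ = k * (g₁ * a * g₁⁻¹) * k⁻¹ by group, hg₁, hk.eq, mul_inv_cancel_right]
  · rw [← hke]; group

theorem exists_far {e : G} (he : e ∈ nbrs D a) : ∃ f ∈ D, ¬ Commute a f ∧ Commute e f := by
  by_contra hno
  push Not at hno
  have hfwd : ∀ f ∈ D, Commute e f → Commute a f := fun f hf hc => by_contra fun h => hno f hf h hc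
  obtain ⟨g, hga, hge⟩ := B.exists_swap he
  have hback : ∀ f ∈ D, Commute a f → Commute e f := by
    let A : Set G := {f | f ∈ D ∧ Commute a f}
    let E : Set G := {f | f ∈ D ∧ Commute e f}
    have hsub : (fun x => g * x * g⁻¹) '' A ⊆ E := by
      rintro _ ⟨x, hx, rfl⟩
      refine ⟨B.grp.2.1 g x hx.1, ?_⟩
      have := (commute_conj_iff (g := g)).2 hx.2
      rwa [hga] at this
    have h1 := Set.ncard_le_ncard hsub (Set.toFinite _)
    rw [Set.ncard_image_of_injective A fun x y h => mul_left_cancel (mul_right_cancel h)] at h1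
    have hEA : E ⊆ A := fun f hf => ⟨hf.1, hfwd f hf.1 hf.2⟩
    have := Set.eq_of_subset_of_ncard_le hEA h1 (Set.toFinite _)
    exact fun f hf hc => (this.symm ▸ ⟨hf, hc⟩ : f ∈ E).2
  haveI : Fact (Nat.Prime 2) := ⟨Nat.prime_two⟩
  have hV : SameV D a e := ⟨he.1, fun f hf => ⟨hfwd f hf, hback f hf⟩⟩
  have hmem := pCore_le_center B.grp B.prim B.width Nat.prime_two
    (sameV_mul_mem_pCore B.set3 B.grp.2.1 hV B.mem)
  rw [B.centre, Subgroup.mem_bot] at hmem
  refine he.2.1 ?_
  rw [← inv_eq B.set3 B.mem]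
  exact eq_inv_of_mul_eq_one_right hmem

theorem img_inj {e f : G} (he : e ∈ nbrs D a) (hf : f ∈ nbrs D a) (h : B.img he = B.img hf) : e = f := by
  by_contra hne
  obtain ⟨hef, hz⟩ := B.commute_of_img_eq he hf h
  have hua : Commute (e * f) a := (he.2.2.mul_right hf.2.2).symm
  have key : ∀ y ∈ D, Commute (e * f) y → Commute a y := by
    intro y hy hc
    by_contra hay
    have := B.eq_one_of_commute hua (fun z hz' => hz z (Subgroup.subset_closure hz')) hy hay hc
    refine hne ?_
    rw [eq_inv_of_mul_eq_one_left this, inv_eq B.set3 hf.1]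
  obtain ⟨g, hga, hge⟩ := B.exists_swap he
  set f' := g * f * g⁻¹ with hf'
  have hf'D : f' ∈ D := B.grp.2.1 g f hf.1
  have hf'a : f' ≠ a := fun h' => hne (mul_left_cancel (mul_right_cancel (hge.trans h'.symm)))
  have hf'e : f' ≠ e := fun h' => hf.2.1 (mul_left_cancel (mul_right_cancel (h'.trans hga.symm)))
  have hca : Commute a f' := by
    have := (commute_conj_iff (g := g)).2 hef
    rwa [hge] at this
  have hce : Commute e f' := by
    have := (commute_conj_iff (g := g)).2 hf.2.2
    rwa [hga] at this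
  have hmem : f' ∈ nbrs D a := ⟨hf'D, hf'a, hca⟩
  have huv : g * (e * f) * g⁻¹ = a * f' := by
    rw [show g * (e * f) * g⁻¹ = (g * e * g⁻¹) * (g * f * g⁻¹) by group, hge]
  -- the product centralises the neighbours of `e`
  have hv : ∀ y ∈ D, y ≠ e → Commute e y → Commute (a * f') y := by
    intro y hy hye hcy
    rw [← huv, ← conj_cancel g y, commute_conj_iff]
    refine hz _ (Subgroup.subset_closure ⟨by simpa using B.grp.2.1 g⁻¹ y hy, fun h' => hye ?_, ?_⟩)
    · rw [← hga, ← h']; group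
    · rw [← commute_conj_iff (g := g), conj_cancel, hga]; exact hcy
  obtain ⟨r, hr, her⟩ := B.img_is_T he
  obtain ⟨z, hzlt, hfz⟩ := B.img_is_T hmem
  have hzr : z = r := by
    refine double_perp hr hzlt fun t ht htr hct => ?_
    obtain ⟨y, hy, hyt⟩ := B.T_is_img ht
    have hye : y ≠ e := fun h' => htr (by
      subst h'
      exact T_inj ht hr (hyt.symm.trans her))
    have hey : Commute e y := (B.img_commute he hy).2 (by rw [her, hyt]; exact (com_iff hr ht).1 hct)
    have h1 := hv y hy.1 hye hey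
    have h2 : Commute f' y := by
      have := (hy.2.2 : Commute a y).mul_left h1
      rwa [mul_self_assoc B.set3 B.mem] at this
    rw [com_iff hzlt ht, ← hfz, ← hyt]
    exact (B.img_commute hmem hy).1 h2
  obtain ⟨hef', hz'⟩ := B.commute_of_img_eq he hmem (by rw [her, hfz, hzr])
  obtain ⟨y, hy, hay, hey⟩ := B.exists_far he
  have hye : y ≠ e := fun h' => hay (h' ▸ he.2.2)
  exact hay ((commute_mul_iff B.set3 B.mem hf'D hy (Ne.symm hf'a)).1 (hv y hy hye hey).symm).1.symm

end Base

/-- A labelling of the members commuting with `a` by the points. -/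
structure Labelled (D : Set G) (a : G) (lab : ℕ → G) : Prop where
  mem : ∀ r < 693, lab r ∈ nbrs D a
  inj : ∀ r < 693, ∀ s < 693, lab r = lab s → r = s
  surj : ∀ e ∈ nbrs D a, ∃ r < 693, lab r = e
  map : ∀ r < 693, ∀ s < 693, lab (mul r s) = lab r * lab s * (lab r)⁻¹

theorem Labelled.comp {D : Set G} {a : G} {lab : ℕ → G} (L : Labelled D a lab) {σ : ℕ → ℕ} (hσ : IsAut σ) :
    Labelled D a (lab ∘ σ) where
  mem := fun r hr => L.mem _ (hσ.lt r hr)
  inj := fun r hr s hs h => hσ.inj r hr s hs (L.inj _ (hσ.lt r hr) _ (hσ.lt s hs) h)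
  surj := fun e he => by
    obtain ⟨r, hr, rfl⟩ := L.surj e he
    obtain ⟨s, hs, rfl⟩ := hσ.surj hr
    exact ⟨s, hs, rfl⟩
  map := fun r hr s hs => by
    show lab (σ (mul r s)) = _
    rw [hσ.map r hr s hs, L.map _ (hσ.lt r hr) _ (hσ.lt s hs)]
    rfl

theorem Base.exists_labelled [Finite G] {D : Set G} {a : G} (B : Base D a) :
    ∃ lab, Labelled D a lab := by
  classical
  choose e he heq using fun r : Fin 693 => B.T_is_img r.2
  let lab : ℕ → G := fun r => if h : r < 693 then e ⟨r, h⟩ else 1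
  have hlab : ∀ r (hr : r < 693), lab r = e ⟨r, hr⟩ := fun r hr => dif_pos hr
  refine ⟨lab, fun r hr => ?_, fun r hr s hs h => ?_, fun x hx => ?_, fun r hr s hs => ?_⟩
  · rw [hlab r hr]; exact he _
  · rw [hlab r hr, hlab s hs] at h
    refine T_inj hr hs ((heq ⟨r, hr⟩).symm.trans (Eq.trans ?_ (heq ⟨s, hs⟩)))
    show B.proj _ = B.proj _
    exact congrArg B.proj (Subtype.ext h)
  · obtain ⟨r, hr, hxr⟩ := B.img_is_T hx
    exact ⟨r, hr, by rw [hlab r hr]; exact B.img_inj (he _) hx ((heq ⟨r, hr⟩).trans hxr.symm)⟩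
  · have hm := mul_lt hr hs
    rw [hlab r hr, hlab s hs, hlab _ hm]
    have hconj := B.conj_mem_nbrs (Subgroup.subset_closure (he ⟨r, hr⟩)) (he ⟨s, hs⟩)
    refine B.img_inj (he _) hconj ((heq ⟨_, hm⟩).trans ?_)
    show T (mul r s) = _
    rw [← T_conj hr hs, ← heq ⟨r, hr⟩, ← heq ⟨s, hs⟩]
    simp only [Base.img]
    rw [← map_inv, ← map_mul, ← map_mul]
    rfl

theorem Labelled.commute_iff {D : Set G} {a : G} {lab : ℕ → G} (L : Labelled D a lab)
    {r s : ℕ} (hr : r < 693) (hs : s < 693) : Commute (lab r) (lab s) ↔ com r s = true := by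
  rw [← mul_eq_iff hr hs]
  refine ⟨fun h => L.inj _ (mul_lt hr hs) s hs ?_, fun h => ?_⟩
  · rw [L.map r hr s hs, h.eq, mul_inv_cancel_right]
  · have := L.map r hr s hs
    rw [h] at this
    exact (eq_mul_inv_iff_mul_eq.1 this).symm

theorem Labelled.app_conj {D : Set G} {a : G} {lab : ℕ → G} (L : Labelled D a lab) :
    ∀ {w : List ℕ} {x : ℕ}, (∀ r ∈ w, r < 693) → x < 693 →
      lab (app w x) = (w.map lab).prod * lab x * ((w.map lab).prod)⁻¹
  | [], x, _, _ => by simp [app_nil]
  | r :: w, x, hw, hx => by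
    have hw' : ∀ s ∈ w, s < 693 := fun s hs => hw s (List.mem_cons_of_mem _ hs)
    rw [app_cons, L.map r (hw r List.mem_cons_self) _ ((isAut_app hw').lt x hx), L.app_conj hw' hx,
      List.map_cons, List.prod_cons]
    group

end CfsgLib.Recog.FiM22
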