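import Cfsg.Agent.Lib.Recog.FiM22.Labelling
import Cfsg.Agent.Lib.Recog.FiM22.Class.All

set_option autoImplicit false
set_option maxRecDepth 20000

/-!
The points labelling the members that commute with two noncommuting members form the standard set
(owner: helper13).
-/

namespace CfsgLib.Recog.FiM22

open Cfsg CfsgLib.ThreeTrans

universe u

variable {G : Type u} [Group G] [Finite G] {D : Set G} {a : G}

/-- The standard position: a labelling and a member not commuting with `a` whose commuting labels are the target. -/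
structure Frame (D : Set G) (a b : G) (lab : ℕ → G) : Prop where
  labelled : Labelled D a lab
  mem : b ∈ D
  far : ¬ Commute a b
  pat : ∀ r < 693, Commute b (lab r) ↔ r ∈ std.p0

theorem local_map (B : Base D a) {lab : ℕ → G} (L : Labelled D a lab) {b : G} (hb : b ∈ D) (hab : ¬ Commute a b)
    {r : ℕ} (hr : r < 693) (hc : Commute b (lab r)) :
    ∃ (g : G) (τ : ℕ → ℕ), IsAut τ ∧ g * lab r * g⁻¹ = a ∧
      ∃ p q, p < 693 ∧ q < 693 ∧ g * a * g⁻¹ = lab p ∧ g * b * g⁻¹ = lab q ∧ com p q = false ∧ τ p = 0 ∧ τ q = second := by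
  have he := L.mem r hr
  obtain ⟨g, hg⟩ := B.prim.1 (lab r) he.1 a B.mem
  have hga : g * a * g⁻¹ ∈ nbrs D a := by
    refine ⟨B.grp.2.1 g a B.mem, fun h => he.2.1 (mul_left_cancel (mul_right_cancel (hg.trans h.symm))), ?_⟩
    have := (commute_conj_iff (g := g)).2 he.2.2.symm
    rwa [hg] at this
  have hgb : g * b * g⁻¹ ∈ nbrs D a := by
    refine ⟨B.grp.2.1 g b hb, fun h => hab ?_, ?_⟩
    · rw [mul_left_cancel (mul_right_cancel (h.trans hg.symm))]
      exact he.2.2
    · have := (commute_conj_iff (g := g)).2 hc.symm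
      rwa [hg] at this
  obtain ⟨p, hp, ep⟩ := L.surj _ hga
  obtain ⟨q, hq, eq⟩ := L.surj _ hgb
  have hpq : com p q = false := Bool.eq_false_iff.2 fun h => hab (by
    have := (L.commute_iff hp hq).2 h
    rwa [ep, eq, commute_conj_iff] at this)
  obtain ⟨τ, hτ, h0, h1⟩ := exists_aut_pair hp hq hpq
  exact ⟨g, τ, hτ, hg, p, q, hp, hq, ep.symm, eq.symm, hpq, h0, h1⟩

theorem cand_of_far (B : Base D a) {lab : ℕ → G} (L : Labelled D a lab) {b : G} (hb : b ∈ D)
    (hab : ¬ Commute a b) : IsCand std (fun r => r < 693 ∧ Commute b (lab r)) where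
  lt := fun _ h => h.1
  ne := by
    obtain ⟨e, he⟩ := B.nbrs_nonempty
    obtain ⟨f, hf, haf, hef⟩ := B.exists_far he
    obtain ⟨g, hg, hgf⟩ := B.setting.noncommute_transitive B.mem hf haf hb hab
    have hga : g * a * g⁻¹ = a := by rw [hg.eq, mul_inv_cancel_right]
    have hmem : g * e * g⁻¹ ∈ nbrs D a := by
      refine ⟨B.grp.2.1 g e he.1, fun h => he.2.1 (mul_left_cancel (mul_right_cancel (h.trans hga.symm))), ?_⟩
      have := (commute_conj_iff (g := g)).2 he.2.2
      rwa [hga] at this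
    obtain ⟨r, hr, er⟩ := L.surj _ hmem
    refine ⟨r, hr, ?_⟩
    rw [er, ← hgf, commute_conj_iff]
    exact hef.symm
  closed := fun e f he hf => ⟨mul_lt he.1 hf.1, by
    rw [L.map e he.1 f hf.1]
    exact (he.2.mul_right hf.2).mul_right he.2.inv_right⟩
  local_iso := by
    rintro r ⟨hr, hc⟩
    obtain ⟨g, τ, hτ, hg, p, q, hp, hq, ep, eq, -, h0, h1⟩ := local_map B L hb hab hr hc
    have key : ∀ z ∈ std.s, ∃ x < 693, τ x = z ∧ ∃ y < 693, lab y = g⁻¹ * lab x * g ∧
        Commute b (lab y) ∧ Commute (lab r) (lab y) ∧ y ≠ r := by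
      intro z hz
      obtain ⟨hz, a0, a1⟩ := mem_std.1 hz
      obtain ⟨x, hx, rfl⟩ := hτ.surj hz
      obtain ⟨n0, c0⟩ := adj_iff.1 a0
      obtain ⟨n1, c1⟩ := adj_iff.1 a1
      have cp : Commute (lab p) (lab x) := (L.commute_iff hp hx).2 (by rw [← hτ.com hp hx, h0]; exact c0)
      have cq : Commute (lab q) (lab x) := (L.commute_iff hq hx).2 (by rw [← hτ.com hq hx, h1]; exact c1)
      have hxm := L.mem x hx
      have hy : g⁻¹ * lab x * g ∈ nbrs D a := by
        refine ⟨by simpa using B.grp.2.1 g⁻¹ _ hxm.1, fun h => n0 ?_, ?_⟩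
        · rw [← h0]
          refine congrArg τ (L.inj p hp x hx ?_)
          rw [← ep, ← h]; group
        · rw [← commute_conj_iff (g := g), conj_cancel, ep]; exact cp
      obtain ⟨y, hy', ey⟩ := L.surj _ hy
      refine ⟨x, hx, rfl, y, hy', ey, ?_, ?_, fun h => hxm.2.1 ?_⟩
      · rw [ey, ← commute_conj_iff (g := g), conj_cancel, eq]; exact cq
      · rw [ey, ← commute_conj_iff (g := g), conj_cancel, hg]; exact hxm.2.2
      · rw [← hg, ← h, ey, conj_cancel]
    choose! x hx hxz y hy hyx hby hry hyr using key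
    refine ⟨y, fun z hz => ⟨⟨hy z hz, hby z hz⟩, (L.commute_iff hr (hy z hz)).1 (hry z hz), hyr z hz⟩, ?_, ?_, ?_⟩
    · rintro v ⟨hv, hbv⟩ hrv hne
      have hvm := L.mem v hv
      have hu : g * lab v * g⁻¹ ∈ nbrs D a := by
        refine ⟨B.grp.2.1 g _ hvm.1, fun h => hne (L.inj v hv r hr (mul_left_cancel (mul_right_cancel (h.trans hg.symm)))), ?_⟩
        rw [← hg, commute_conj_iff]
        exact (L.commute_iff hr hv).2 hrv
      obtain ⟨w, hw, ew⟩ := L.surj _ hu
      have hwp : com p w = true := (L.commute_iff hp hw).1 (by rw [ew, ← ep, commute_conj_iff]; exact hvm.2.2)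
      have hwq : com q w = true := (L.commute_iff hq hw).1 (by rw [ew, ← eq, commute_conj_iff]; exact hbv)
      have np : p ≠ w := fun h => hvm.2.1 (mul_left_cancel (mul_right_cancel
        (((h ▸ ep : g * a * g⁻¹ = lab w)).trans ew))).symm
      have nq : q ≠ w := fun h => hab (by
        rw [mul_left_cancel (mul_right_cancel (((h ▸ eq : g * b * g⁻¹ = lab w)).trans ew))]
        exact hvm.2.2)
      have hz : τ w ∈ std.s := mem_std.2 ⟨hτ.lt w hw,
        adj_iff.2 ⟨fun h => np (hτ.inj p hp w hw (h0.trans h)), by rw [← h0, hτ.com hp hw, hwp]⟩,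
        adj_iff.2 ⟨fun h => nq (hτ.inj q hq w hw (h1.trans h)), by rw [← h1, hτ.com hq hw, hwq]⟩⟩
      refine ⟨τ w, hz, L.inj _ (hy _ hz) v hv ?_⟩
      rw [hyx _ hz, hτ.inj _ (hx _ hz) w hw (hxz _ hz), ew]
      group
    · intro z hz w hw h
      have := congrArg lab h
      rw [hyx z hz, hyx w hw] at this
      rw [← hxz z hz, ← hxz w hw, L.inj _ (hx z hz) _ (hx w hw) (mul_left_cancel (mul_right_cancel this))]
    · intro z hz w hw
      have hm : mul z w ∈ std.s := by
        have h1' := mem_std.1 hz; have h2' := mem_std.1 hw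
        obtain ⟨n0, c0⟩ := adj_iff.1 h1'.2.1; obtain ⟨n1, c1⟩ := adj_iff.1 h1'.2.2
        obtain ⟨m0, d0⟩ := adj_iff.1 h2'.2.1; obtain ⟨m1, d1⟩ := adj_iff.1 h2'.2.2
        have f : ∀ o < 693, o ≠ w → com o z = true → com o w = true → adj o (mul z w) = true := by
          intro o ho how hoz hwo
          have e : mul z o = o := (mul_eq_iff h1'.1 ho).2 (by rw [com_comm h1'.1 ho]; exact hoz)
          refine adj_iff.2 ⟨fun h => how ?_, ?_⟩
          · have := congrArg (mul z) h
            rwa [e, mul_mul_self h1'.1 h2'.1] at this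
          · rw [← e, (isAut_mul h1'.1).com ho h2'.1]; exact hwo
        exact mem_std.2 ⟨mul_lt h1'.1 h2'.1, f 0 (by norm_num) m0 c0 d0, f second (by decide) m1 c1 d1⟩
      refine L.inj _ (hy _ hm) _ (mul_lt (hy z hz) (hy w hw)) ?_
      have hxm : x (mul z w) = mul (x z) (x w) := hτ.inj _ (hx _ hm) _ (mul_lt (hx z hz) (hx w hw))
        (by rw [hxz _ hm, hτ.map _ (hx z hz) _ (hx w hw), hxz z hz, hxz w hw])
      rw [hyx _ hm, hxm, L.map _ (hx z hz) _ (hx w hw), L.map _ (hy z hz) _ (hy w hw), hyx z hz, hyx w hw]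
      group

theorem exists_frame (B : Base D a) : ∃ b lab, Frame D a b lab := by
  obtain ⟨lab, L⟩ := B.exists_labelled
  obtain ⟨b, hb, hab⟩ := exists_not_commute (class_of_primitive B.grp B.prim) B.prim.2.1 B.mem
  obtain ⟨σ, hσ, hiff⟩ := cand_classified (cand_of_far B L hb hab)
  choose! inv hinv hinvσ using fun (t : ℕ) (ht : t < 693) => hσ.surj ht
  have hiaut : IsAut inv := ⟨hinv, fun r hr s hs h => by rw [← hinvσ r hr, h, hinvσ s hs],
    fun r hr s hs => hσ.inj _ (hinv _ (mul_lt hr hs)) _ (mul_lt (hinv r hr) (hinv s hs)) (by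
      rw [hinvσ _ (mul_lt hr hs), hσ.map _ (hinv r hr) _ (hinv s hs), hinvσ r hr, hinvσ s hs])⟩
  refine ⟨b, lab ∘ inv, L.comp hiaut, hb, hab, fun r hr => ?_⟩
  rw [← hiff r]
  constructor
  · exact fun h => ⟨inv r, ⟨hinv r hr, h⟩, hinvσ r hr⟩
  · rintro ⟨x, ⟨hx, hc⟩, e⟩
    show Commute b (lab (inv r))
    rwa [hσ.inj _ (hinv r hr) x hx ((hinvσ r hr).trans e.symm)]

/-- Only two members have a given set of commuting labels. -/
theorem fibre (B : Base D a) {lab : ℕ → G} (L : Labelled D a lab) {b b' : G} (hb : b ∈ D) (hab : ¬ Commute a b)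
    (hb' : b' ∈ D) (hab' : ¬ Commute a b') (h : ∀ r < 693, Commute b (lab r) → Commute b' (lab r)) :
    b' = b ∨ b' = a * b * a := by
  obtain ⟨r, hr, hc⟩ := (cand_of_far B L hb hab).ne
  obtain ⟨g, τ, hτ, hg, p, q, hp, hq, ep, eq, hpq, -, -⟩ := local_map B L hb hab hr hc
  have hgb' : g * b' * g⁻¹ ∈ nbrs D a := by
    refine ⟨B.grp.2.1 g b' hb', fun e => hab' ?_, ?_⟩
    · rw [mul_left_cancel (mul_right_cancel (e.trans hg.symm))]
      exact (L.mem r hr).2.2
    · rw [← hg, commute_conj_iff]; exact (h r hr hc).symm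
  obtain ⟨z, hz, ez⟩ := L.surj _ hgb'
  have hline := on_line hp hq hz hpq fun t ht hpt hqt => by
    obtain ⟨n0, c0⟩ := adj_iff.1 hpt
    obtain ⟨n1, c1⟩ := adj_iff.1 hqt
    have htm := L.mem t ht
    have cp : Commute (lab p) (lab t) := (L.commute_iff hp ht).2 c0
    have cq : Commute (lab q) (lab t) := (L.commute_iff hq ht).2 c1
    have hy : g⁻¹ * lab t * g ∈ nbrs D a := by
      refine ⟨by simpa using B.grp.2.1 g⁻¹ _ htm.1, fun e => n0 (L.inj p hp t ht ?_), ?_⟩
      · rw [← ep, ← e]; group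
      · rw [← commute_conj_iff (g := g), conj_cancel, ep]; exact cp
    obtain ⟨y, hy', ey⟩ := L.surj _ hy
    have hby : Commute b (lab y) := by rw [ey, ← commute_conj_iff (g := g), conj_cancel, eq]; exact cq
    have := h y hy' hby
    rw [ey, ← commute_conj_iff (g := g), conj_cancel] at this
    exact (L.commute_iff hz ht).1 (by rw [ez]; exact this)
  rcases hline with rfl | rfl | rfl
  · exact absurd ((mul_left_cancel (mul_right_cancel (ez.symm.trans ep.symm)) : b' = a) ▸ Commute.refl a) hab'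
  · exact Or.inl (mul_left_cancel (mul_right_cancel (ez.symm.trans eq.symm)))
  · right
    have e : g * b' * g⁻¹ = g * (b * a * b) * g⁻¹ := by
      rw [← ez, L.map q hq p hp, ← eq, ← ep]
      calc g * b * g⁻¹ * (g * a * g⁻¹) * (g * b * g⁻¹)⁻¹ = g * (b * a * b⁻¹) * g⁻¹ := by group
        _ = _ := by rw [inv_eq B.set3 hb]
    rw [mul_left_cancel (mul_right_cancel e)]
    exact braid B.set3 hb B.mem fun h' => hab h'.symm

/-- A product of points moving no point. -/
theorem centralizes {lab : ℕ → G} (L : Labelled D a lab) {w : List ℕ} (hw : ∀ r ∈ w, r < 693)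
    (hfix : ∀ t < 693, app w t = t) : Commute ((w.map lab).prod) a ∧
      ∀ y ∈ nbrs D a, Commute ((w.map lab).prod) y := by
  refine ⟨?_, fun y hy => ?_⟩
  · refine Commute.list_prod_left _ _ ?_
    intro x hx
    obtain ⟨r, hr, rfl⟩ := List.mem_map.1 hx
    exact (L.mem r (hw r hr)).2.2.symm
  · obtain ⟨t, ht, rfl⟩ := L.surj y hy
    have e := L.app_conj hw ht
    rw [hfix t ht] at e
    exact (eq_mul_inv_iff_mul_eq.1 e).symm

end CfsgLib.Recog.FiM22
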