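import Cfsg.Agent.Lib.Recog.SporBound.Fi22Outer.Classes
import Cfsg.Agent.Lib.Recog.SporBound.Fi22Outer.AutBound
import Cfsg.Agent.Lib.Recog.FiM22.Identify
import Cfsg.Agent.Lib.Recog.SporBound.Fi22Inv.Main
import Cfsg.Agent.Lib.Components.Char

set_option autoImplicit false
set_option maxRecDepth 20000

/-!
The classes of outer automorphisms of order 2 of a group of type M(22) and their fixed groups (owner: helper24).
-/

namespace CfsgLib.Recog.FiM22

open Cfsg CfsgLib.Recog.SporBound CfsgLib.Recog.SporBound.Fi22Pair CfsgLib.Recog.SporBound.Fi22Outer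
open CfsgLib.Recog.SporBound.Fi22Group (a act card_and_faithful)

universe u

variable {G : Type u} [Group G] [Finite G] {D : Set G}

/-- An automorphism fixes an element exactly when it commutes with the conjugation by it, for trivial centre. -/
theorem fix_iff (hinj : Function.Injective (MulAut.conj : G →* MulAut G)) (α : MulAut G) (g : G) :
    α g = g ↔ MulAut.conj g * α = α * MulAut.conj g := by
  have h : α * MulAut.conj g * α⁻¹ = MulAut.conj (α g) := MulEquiv.ext fun x => by simp
  constructor
  · intro e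
    rw [e] at h
    exact (mul_inv_eq_iff_eq_mul.1 h).symm
  · intro e
    refine hinj ?_
    rw [← h, ← e, mul_inv_cancel_right]

/-- The restriction of an injective map to the preimage of a subgroup. -/
noncomputable def comapEquiv {K H : Type*} [Group K] [Group H] (f : K →* H) (hf : Function.Injective f) (S : Subgroup H)
    (hS : S ≤ f.range) : S.comap f ≃* S :=
  MulEquiv.ofBijective ((f.comp (S.comap f).subtype).codRestrict S fun x => x.2)
    ⟨fun x y e => Subtype.ext (hf (congrArg Subtype.val e)), fun ⟨y, hy⟩ => by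
      obtain ⟨x, rfl⟩ := hS hy
      exact ⟨⟨x, hy⟩, rfl⟩⟩

theorem comapEquiv_apply {K H : Type*} [Group K] [Group H] (f : K →* H) (hf : Function.Injective f) (S : Subgroup H)
    (hS : S ≤ f.range) (x : S.comap f) : (comapEquiv f hf S hS x : H) = f x := rfl

/-- The frame of a group of type M(22) and the images of two commuting transpositions. -/
theorem exists_outer_frame (hD : IsThreeTranspositionGroup D) (hprim : IsPrimitiveUnderConj D)
    (ht : IsOfTypeM22 G D) :
    ∃ (F : Fi22Pair.Frame (MulAut G)) (x y : G), Function.Injective (MulAut.conj : G →* MulAut G) ∧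
      F.Inner = (MulAut.conj : G →* MulAut G).range ∧ x ∈ D ∧ y ∈ D ∧ x ≠ y ∧ Commute x y ∧
      MulAut.conj x = F.el (false, [7]) ∧ MulAut.conj y = F.el (false, [9]) ∧
      ∀ t : MulAut G, t * t = 1 → ∃ r, F.θ t r = r := by
  obtain ⟨e, he⟩ := identify_of_type hD hprim ht
  obtain ⟨F₀, hF₀⟩ := Fi22Pair.exists_frame
  set F := F₀.map (MulAut.congr e.symm)
  have hθ : ∀ α : MulAut G, F.θ α = theta (MulAut.congr e.symm α) := fun α => by rw [← hF₀]; rfl
  have hconj : ∀ z : Spor.Fi22, F.θ (MulAut.conj (e z)) = act z := fun z => by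
    rw [hθ, ← theta_conj]
    exact congrArg theta (MulEquiv.ext fun w => by simp [MulAut.congr])
  set seven : Fi22Aut.Row := ⟨7, by decide⟩
  set nine : Fi22Aut.Row := ⟨9, by decide⟩
  have hne : Fi22Aut.T seven ≠ Fi22Aut.T nine := fun h => absurd (congrArg Fin.val (Fi22Aut.T_inj h)) (by decide)
  refine ⟨F, e (Fi22Aut.T seven), e (Fi22Aut.T nine), fun g h hgh => ?_, le_antisymm ?_ ?_, he ▸ ⟨_, Fi22Inv.T_mem seven, rfl⟩,
    he ▸ ⟨_, Fi22Inv.T_mem nine, rfl⟩, fun h => hne (e.injective h), ?_, F.injective ?_, F.injective ?_, fun t ht2 => ?_⟩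
  · have h1 := congrArg F.θ hgh
    rw [← e.apply_symm_apply g, ← e.apply_symm_apply h, hconj, hconj] at h1
    exact e.symm.injective (card_and_faithful.2.1 h1)
  · rintro α ⟨z, hz⟩
    exact ⟨e z, F.injective ((hconj z).trans hz)⟩
  · rintro _ ⟨g, rfl⟩
    exact ⟨e.symm g, by rw [← hconj, e.apply_symm_apply]⟩
  · have hc : Fi22Aut.com seven nine :=
      (Fi22Aut.comB_iff seven nine).1 (by decide +kernel)
    show e (Fi22Aut.T seven) * e (Fi22Aut.T nine) = e (Fi22Aut.T nine) * e (Fi22Aut.T seven)
    rw [← map_mul, ← map_mul, Fi22Aut.com_iff.1 hc]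
  · rw [hconj, ← F.el_T seven]
  · rw [hconj, ← F.el_T nine]
  · obtain ⟨r, hr⟩ := Fi22Inv.exists_fixed_row (MulAut.congr e.symm t) (fun x => by
      show (MulAut.congr e.symm t * MulAut.congr e.symm t) x = x
      rw [← map_mul, ht2, map_one]
      rfl)
    refine ⟨r, Fi22Aut.T_inj ?_⟩
    rw [hθ, ← theta_spec]
    exact hr

end CfsgLib.Recog.FiM22
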