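import Cfsg.Agent.Lib.Recog.SporBound.Fi22Pair.Main
import Cfsg.Agent.Lib.Recog.FiM22.Identify
import Cfsg.Agent.Lib.Recog.SporBound.Fi22Inv.Main

set_option autoImplicit false
set_option maxRecDepth 20000

/-!
Two distinct commuting members in type M(22), seen in the frame of the automorphism group of Fi22
(owner: helper24).
-/

namespace CfsgLib.Recog.FiM22

open Cfsg CfsgLib.Recog.SporBound CfsgLib.Recog.SporBound.Fi22Pair
open CfsgLib.Recog.SporBound.Fi22Group (a act K)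
open CfsgLib.Recog.SporBound.Fi22U6 (origin base stab_eq orbit_iff)
open CfsgLib.Recog.SporBound.Fi22Aut

universe u

variable {G : Type u} [Group G] [Finite G] {D : Set G}

/-- An element moving the standard pair to a given commuting pair. -/
theorem exists_mover {r s : Row} (h : Fi22Aut.com r s) (hne : r ≠ s) :
    ∃ g : Spor.Fi22, act g origin = r ∧ act g base = s := by
  set s' : Row := act (gr r)⁻¹ s
  have hs : act (gr r) s' = s := by
    rw [← Equiv.Perm.mul_apply, ← map_mul, mul_inv_cancel, map_one, Equiv.Perm.one_apply]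
  have hr0 : act (gr r) origin = r := gr_origin r
  have h1 : Fi22Aut.com origin s' := (Fi22Aut.com_act (gr r)).1 (by rw [hr0, hs]; exact h)
  have h2 : origin ≠ s' := fun e => hne (by rw [← hr0, e, hs])
  have h3 := eq_of_beq (List.all_eq_true.1 nbr_ok s' (List.mem_range.2 s'.2))
  rw [show comB 0 s' = true from (comB_iff origin s').2 h1, Bool.true_and,
    show Nat.beq (s' : ℕ) 0 = false from Bool.eq_false_iff.2 fun e => h2 (Fin.ext (Nat.eq_of_beq_eq_true e).symm)] at h3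
  obtain ⟨k, hk, e⟩ := (orbit_iff s').1 (show Fi22U6.inO s' from h3)
  refine ⟨gr r * k, ?_, ?_⟩ <;> rw [map_mul, Equiv.Perm.mul_apply]
  · rw [stab_eq.2 hk, hr0]
  · rw [e, hs]

/-- The frame of a commuting pair. -/
theorem exists_pair_frame (hD : IsThreeTranspositionGroup D) (hprim : IsPrimitiveUnderConj D)
    (ht : IsOfTypeM22 G D) {d₁ d₂ : G} (h₁ : d₁ ∈ D) (h₂ : d₂ ∈ D) (hne : d₁ ≠ d₂) (hc : Commute d₁ d₂) :
    ∃ F : Fi22Pair.Frame (MulAut G), F.jz = MulAut.conj (d₁ * d₂) := by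
  obtain ⟨e, he⟩ := identify_of_type hD hprim ht
  rw [← he] at h₁ h₂
  obtain ⟨x₁, hx₁, rfl⟩ := h₁
  obtain ⟨x₂, hx₂, rfl⟩ := h₂
  obtain ⟨r, rfl⟩ := Fi22Inv.exists_row hx₁
  obtain ⟨s, rfl⟩ := Fi22Inv.exists_row hx₂
  have hrs : Fi22Aut.com r s := Fi22Aut.com_iff.2 (e.injective (by rw [map_mul, map_mul]; exact hc.eq))
  obtain ⟨g, hg0, hg7⟩ := exists_mover hrs fun h => hne (by rw [h])
  obtain ⟨F₀, hF₀⟩ := Fi22Pair.exists_frame
  let E : MulAut G ≃* MulAut Spor.Fi22 := (MulAut.congr e.symm).trans (MulAut.conj (MulAut.conj g⁻¹))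
  refine ⟨F₀.map E, (F₀.map E).injective ?_⟩
  rw [Frame.jz_eq]
  show _ = F₀.θ (E (MulAut.conj (e (Fi22Aut.T r) * e (Fi22Aut.T s))))
  have hE : E (MulAut.conj (e (Fi22Aut.T r) * e (Fi22Aut.T s))) = MulAut.conj (Fi22Aut.T origin * Fi22Aut.T base) := by
    have h1 : MulAut.congr e.symm (MulAut.conj (e (Fi22Aut.T r) * e (Fi22Aut.T s))) = MulAut.conj (Fi22Aut.T r * Fi22Aut.T s) :=
      MulEquiv.ext fun x => by simp [MulAut.congr]
    show MulAut.conj g⁻¹ * MulAut.congr e.symm (MulAut.conj (e (Fi22Aut.T r) * e (Fi22Aut.T s))) * (MulAut.conj g⁻¹)⁻¹ = _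
    rw [h1, ← map_inv, ← map_mul, ← map_mul, ← hg0, ← hg7, Fi22Aut.T_equiv, Fi22Aut.T_equiv]
    congr 1
    group
  rw [hE, hF₀, theta_conj, map_mul]

end CfsgLib.Recog.FiM22
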