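import Cfsg.Agent.Lib.Recog.FiM22.Normalise
import Cfsg.Agent.Lib.Recog.FiM22.EnumExtra
import Cfsg.Agent.Lib.Recog.FiM22.Enum.Data

set_option autoImplicit false
set_option maxRecDepth 20000

/-!
In the standard position thirteen members satisfy every relator of the certificate (owner: helper13).
-/

namespace CfsgLib.Recog.FiM22

open Cfsg CfsgLib.ThreeTrans CfsgLib.Recog.SporBound

/-- A letter put before a reduced word. -/
noncomputable def push (x : ℕ) (l : List ℕ) : List ℕ :=
  List.rec (motive := fun _ => List ℕ) [x] (fun y ys _ => cond (Nat.beq x y) ys (x :: y :: ys)) l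

/-- Equal neighbours cancelled. -/
noncomputable def red (w : List ℕ) : List ℕ :=
  List.rec (motive := fun _ => List ℕ) [] (fun x _ ih => push x ih) w

/-- Equal letters at the two ends removed. -/
noncomputable def strip (k : ℕ) : List ℕ → List ℕ :=
  Nat.rec (motive := fun _ => List ℕ → List ℕ) (fun o => o)
    (fun _ ih o => cond (Nat.blt 1 o.length && Nat.beq (o.getD 0 0) (o.getD (o.length - 1) 0))
      (ih o.tail.dropLast) o) k

/-- The cyclically reduced form of a word. -/
noncomputable def canonW (w : List ℕ) : List ℕ := strip w.length (red w)

/-- A generating point. -/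
noncomputable def gp (j : ℕ) : ℕ := gensL.getD j 0

/-- The letters of a word giving a point. -/
noncomputable def wordOf (u : ℕ) : List ℕ :=
  (wordH u).map (fun j => j + 2) ++ (wordX u + 2) :: ((wordH u).map (fun j => j + 2)).reverse

/-- The expected commuting of two letters. -/
noncomputable def pairCom (x y : ℕ) : Bool :=
  cond (Nat.beq x 0) (!(Nat.beq y 1))
    (cond (Nat.beq x 1) (memb (gp (y - 2)) std.p0) (com (gp (x - 2)) (gp (y - 2))))

/-- The product of the last three of the six points. -/
noncomputable def linkWord : List ℕ := (sixPts.drop 3).flatMap wordOf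

/-- The check of a relator against its origin. -/
noncomputable def relOK (code x y : ℕ) (w : List ℕ) : Bool :=
  cond (Nat.beq code 0) (Nat.blt x 13 && leq w [x, x])
    (cond (Nat.beq code 1)
      (Nat.blt x y && (Nat.blt y 13 && leq w (List.replicate (cond (pairCom x y) 2 3) [x, y]).flatten))
      (cond (Nat.beq code 2)
        (Nat.blt x 11 && (Nat.blt y 693 &&
          leq w (canonW ([x + 2] ++ wordOf y ++ [x + 2] ++ wordOf (mul (gp x) y)))))
        (cond (Nat.beq code 3)
          (Nat.blt x 693 && leq w (List.replicate (cond (memb x std.p0) 2 3) (1 :: wordOf x)).flatten)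
          (leq w (canonW (linkWord ++ [1] ++ linkWord.reverse ++ [0, 1, 0]))))))

/-- The check of all relators. -/
noncomputable def relsOK (ks : List ℕ) : List (List ℕ) → Bool :=
  List.rec (motive := fun _ => List (List ℕ) → Bool) (fun ws => ws.isEmpty)
    (fun k _ ih ws => List.rec (motive := fun _ => Bool) false
      (fun w ws' _ => relOK (k % 8) (k / 8 % 1024) (k / 8192) w && ih ws') ws) ks

theorem rels_checked : relsOK kinds Enum.cert.rels = true := by decide +kernel

/-- The check of the six points. -/
noncomputable def sixOK : Bool :=
  leq (sixPts.map fun r => cond (Nat.blt r 693) 1 0) [1, 1, 1, 1, 1, 1] &&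
    ((sixPts.take 3).all (fun r => memb r std.p0) && ((sixPts.drop 3).all (fun r => !(memb r std.p0)) &&
      (nodupB sixPts && sixPts.all (fun r => sixPts.all fun s => com r s))))

theorem six_checked : sixOK = true := by decide +kernel

theorem six_fix : CfsgLib.ThreeTrans.CosetIndex.forallFrom (fun t => Nat.beq (app sixPts t) t) 0 693 = true := by
  decide +kernel

theorem memb_iff_mem {x : ℕ} : ∀ {l : List ℕ}, memb x l = true ↔ x ∈ l
  | [] => by simp [memb]
  | y :: l => by
    show cond (Nat.beq x y) true (memb x l) = true ↔ _
    cases h : Nat.beq x y with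
    | true => simp [Nat.eq_of_beq_eq_true h]
    | false => simp [memb_iff_mem (l := l), Nat.ne_of_beq_eq_false h]

universe u

variable {G : Type u} [Group G]

theorem prod_push {f : ℕ → G} (hf : ∀ x, f x * f x = 1) (x : ℕ) :
    ∀ l : List ℕ, ((push x l).map f).prod = f x * (l.map f).prod
  | [] => by simp [push]
  | y :: ys => by
    show ((cond (Nat.beq x y) ys (x :: y :: ys)).map f).prod = _
    cases h : Nat.beq x y with
    | true => rw [cond_true, Nat.eq_of_beq_eq_true h, List.map_cons, List.prod_cons, ← mul_assoc, hf, one_mul]
    | false => simp

theorem prod_red {f : ℕ → G} (hf : ∀ x, f x * f x = 1) : ∀ w : List ℕ, ((red w).map f).prod = (w.map f).prod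
  | [] => rfl
  | x :: w => by
    show ((push x (red w)).map f).prod = _
    rw [prod_push hf, prod_red hf w, List.map_cons, List.prod_cons]

theorem prod_strip {f : ℕ → G} (hf : ∀ x, f x * f x = 1) :
    ∀ (k : ℕ) (o : List ℕ), (o.map f).prod = 1 → ((strip k o).map f).prod = 1
  | 0, o, h => h
  | k + 1, o, h => by
    show ((cond (Nat.blt 1 o.length && Nat.beq (o.getD 0 0) (o.getD (o.length - 1) 0))
      (strip k o.tail.dropLast) o).map f).prod = 1
    cases hc : Nat.blt 1 o.length && Nat.beq (o.getD 0 0) (o.getD (o.length - 1) 0) with
    | false => exact h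
    | true =>
      refine prod_strip hf k _ ?_
      simp only [Bool.and_eq_true, Nat.beq_eq] at hc
      obtain ⟨x, r, rfl⟩ : ∃ x r, o = x :: r := List.exists_cons_of_length_pos (by simpa using Nat.lt_of_succ_lt (by simpa using hc.1))
      rcases List.eq_nil_or_concat r with rfl | ⟨m, y, rfl⟩
      · simp at hc
      · have hy : x = y := by simpa [List.getD_eq_getElem?_getD, List.getElem?_append] using hc.2
        subst hy
        rw [List.tail_cons, List.concat_eq_append, List.dropLast_concat]
        simp only [List.map_cons, List.prod_cons, List.concat_eq_append, List.map_append, List.prod_append,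
          List.map_nil, List.prod_nil, mul_one] at h
        calc (m.map f).prod = f x * f x * (m.map f).prod * (f x * f x) := by rw [hf, one_mul, mul_one]
          _ = f x * (f x * ((m.map f).prod * f x)) * f x := by simp only [mul_assoc]
          _ = _ := by rw [h, mul_one, hf]

theorem prod_canon {f : ℕ → G} (hf : ∀ x, f x * f x = 1) {w : List ℕ} (h : (w.map f).prod = 1) :
    ((canonW w).map f).prod = 1 := prod_strip hf _ _ (by rw [prod_red hf, h])

theorem prod_replicate (f : ℕ → G) (k : ℕ) (l : List ℕ) :
    ((List.replicate k l).flatten.map f).prod = (l.map f).prod ^ k := by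
  rw [List.map_flatten, List.prod_flatten, List.map_map, List.map_replicate, List.prod_replicate]
  rfl

variable {D : Set G} {a b : G} {lab : ℕ → G}

/-- The thirteen letters. -/
noncomputable def letter (a b : G) (lab : ℕ → G) : ℕ → G
  | 0 => a
  | 1 => b
  | j + 2 => if j < 11 then lab (gp j) else 1

theorem letter_gen {j : ℕ} (hj : j < 11) : letter a b lab (j + 2) = lab (gp j) := if_pos hj

theorem letter_big {x : ℕ} (hx : 13 ≤ x) : letter a b lab x = 1 := by
  obtain ⟨j, rfl⟩ := Nat.exists_eq_add_of_le' (show 2 ≤ x by omega)
  exact if_neg (by omega)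

section Frame

variable [Finite G] (B : Base D a) (F : Frame D a b lab)
include B F

omit [Finite G] in
theorem letter_mem {x : ℕ} (hx : x < 13) : letter a b lab x ∈ D := by
  match x, hx with
  | 0, _ => exact B.mem
  | 1, _ => exact F.mem
  | j + 2, h =>
    rw [letter_gen (by omega)]
    exact (F.labelled.mem _ (gens_lt (by omega))).1

omit [Finite G] in
theorem letter_sq (x : ℕ) : letter a b lab x * letter a b lab x = 1 := by
  rcases Nat.lt_or_ge x 13 with h | h
  · exact mul_self B.set3 (letter_mem B F h)
  · rw [letter_big h, one_mul]

omit [Finite G] in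
theorem prod_wordOf {r : ℕ} (hr : r < 693) : ((wordOf r).map (letter a b lab)).prod = lab r := by
  obtain ⟨hX, hh, hword⟩ := word_spec hr
  have hhd : ((wordH r).map fun j => j + 2).map (letter a b lab) =
      ((wordH r).map fun j => gensL.getD j 0).map lab := by
    rw [List.map_map, List.map_map]
    exact List.map_congr_left fun j hj => letter_gen (hh j hj)
  have hlt : ∀ s ∈ (wordH r).map (fun j => gensL.getD j 0), s < 693 := fun s hs => by
    obtain ⟨j, hj, rfl⟩ := List.mem_map.1 hs
    exact gens_lt (hh j hj)
  rw [wordOf, List.map_append, List.prod_append, List.map_cons, List.prod_cons,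
    CfsgLib.ThreeTrans.CosetIndex.prod_reverse_eq_inv _ (letter_sq B F), hhd, letter_gen hX, ← mul_assoc, gp,
    ← F.labelled.app_conj hlt (gens_lt hX), hword]

omit [Finite G] in
theorem pairCom_iff {x y : ℕ} (hxy : x < y) (hy : y < 13) :
    pairCom x y = true ↔ Commute (letter a b lab x) (letter a b lab y) := by
  match x, y, hxy, hy with
  | 0, 1, _, _ =>
    show false = true ↔ Commute a b
    exact iff_of_false (by simp) F.far
  | 0, j + 2, _, h =>
    show true = true ↔ Commute a _
    rw [letter_gen (by omega)]
    exact iff_of_true rfl (F.labelled.mem _ (gens_lt (by omega))).2.2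
  | 1, j + 2, _, h =>
    show memb (gp (j + 2 - 2)) std.p0 = true ↔ Commute b _
    rw [letter_gen (by omega), Nat.add_sub_cancel, memb_iff_mem]
    exact (F.pat _ (gens_lt (by omega))).symm
  | i + 2, j + 2, _, h =>
    show com (gp (i + 2 - 2)) (gp (j + 2 - 2)) = true ↔ _
    rw [letter_gen (by omega), letter_gen (by omega), Nat.add_sub_cancel, Nat.add_sub_cancel]
    exact (F.labelled.commute_iff (gens_lt (by omega)) (gens_lt (by omega))).symm

/-- The product of three of the six points carries `b` to the braid with `a`. -/
theorem link : (((sixPts.drop 3).map lab).prod) * b * (((sixPts.drop 3).map lab).prod)⁻¹ = a * b * a := by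
  obtain ⟨-, hin, hout, -, hcomm⟩ :
      leq (sixPts.map fun r => cond (Nat.blt r 693) 1 0) [1, 1, 1, 1, 1, 1] = true ∧
      (sixPts.take 3).all (fun r => memb r std.p0) = true ∧
      (sixPts.drop 3).all (fun r => !(memb r std.p0)) = true ∧ nodupB sixPts = true ∧
      sixPts.all (fun r => sixPts.all fun s => com r s) = true := by
    simpa only [sixOK, Bool.and_eq_true] using six_checked
  simp only [List.all_eq_true, Bool.not_eq_true', memb_iff_mem] at hin hout hcomm
  have hlt : ∀ r ∈ sixPts, r < 693 := by decide
  have hfix : ∀ t < 693, app sixPts t = t := fun t ht =>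
    Nat.eq_of_beq_eq_true (CfsgLib.ThreeTrans.CosetIndex.forallFrom_elim six_fix (Nat.zero_le t) (by omega))
  obtain ⟨hua, huy⟩ := centralizes F.labelled hlt hfix
  set P := ((sixPts.take 3).map lab).prod with hP
  set Q := ((sixPts.drop 3).map lab).prod with hQ
  have hu : (sixPts.map lab).prod = P * Q := by
    rw [hP, hQ, ← List.prod_append, ← List.map_append, List.take_append_drop]
  rw [hu] at hua huy
  have hPb : Commute P b := by
    refine Commute.list_prod_left _ _ fun x hx => ?_
    obtain ⟨r, hr, rfl⟩ := List.mem_map.1 hx
    exact ((F.pat r (hlt r (List.mem_of_mem_take hr))).2 (hin r hr)).symm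
  have hPa : Commute P a := by
    refine Commute.list_prod_left _ _ fun x hx => ?_
    obtain ⟨r, hr, rfl⟩ := List.mem_map.1 hx
    exact (F.labelled.mem r (hlt r (List.mem_of_mem_take hr))).2.2.symm
  have hb' : P * Q * b * (P * Q)⁻¹ ∈ D := B.grp.2.1 _ b F.mem
  have ha' : P * Q * a * (P * Q)⁻¹ = a := by rw [hua.eq, mul_inv_cancel_right]
  have hfar : ¬ Commute a (P * Q * b * (P * Q)⁻¹) := by
    intro h
    rw [← ha', commute_conj_iff] at h
    exact F.far h
  rcases fibre B F.labelled F.mem F.far hb' hfar (fun r hr hc => by
      have := (commute_conj_iff (g := P * Q)).2 hc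
      rwa [(huy _ (F.labelled.mem r hr)).eq, mul_inv_cancel_right] at this) with e | e
  · exfalso
    have hub : Commute (P * Q) b := mul_inv_eq_iff_eq_mul.1 e
    have h1 := B.eq_one_of_commute hua huy F.mem F.far hub
    have hQb : Commute b Q := by
      rw [eq_inv_of_mul_eq_one_right h1]
      exact hPb.symm.inv_right
    have hcom : ∀ r ∈ sixPts, ∀ s ∈ sixPts, Commute (lab r) (lab s) := fun r hr s hs =>
      (F.labelled.commute_iff (hlt r hr) (hlt s hs)).2 (hcomm r hr s hs)
    have hd : sixPts.drop 3 = [299, 652, 667] := by decide
    rw [hQ, hd] at hQb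
    simp only [List.map_cons, List.map_nil, List.prod_cons, List.prod_nil, mul_one, ← mul_assoc] at hQb
    have m : ∀ r, r < 693 → lab r ∈ D := fun r h => (F.labelled.mem r h).1
    have := ((commute_mul_three_iff B.set3 (m 299 (by norm_num)) (m 652 (by norm_num)) (m 667 (by norm_num))
      F.mem (fun h => by simpa using F.labelled.inj _ (by norm_num) _ (by norm_num) h)
      (fun h => by simpa using F.labelled.inj _ (by norm_num) _ (by norm_num) h)
      (fun h => by simpa using F.labelled.inj _ (by norm_num) _ (by norm_num) h)
      (hcom _ (by decide) _ (by decide)) (hcom _ (by decide) _ (by decide))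
      (hcom _ (by decide) _ (by decide))).1 hQb).1
    have := hout 299 (by decide)
    rw [← Bool.not_eq_true, memb_iff_mem] at this
    exact this ((F.pat 299 (by norm_num)).1 ‹_›)
  · have h2 : Q * b * Q⁻¹ = P⁻¹ * (a * b * a) * P := by rw [← e]; group
    rw [h2, mul_assoc, ← ((hPa.mul_right hPb).mul_right hPa).eq, inv_mul_cancel_left]

/-- Every relator of the certificate holds. -/
theorem rel_one : ∀ w ∈ Enum.cert.rels, (w.map (letter a b lab)).prod = 1 := by
  have hsq := letter_sq B F
  have key : ∀ c x y w, relOK c x y w = true → (w.map (letter a b lab)).prod = 1 := by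
    intro c x y w h
    simp only [relOK] at h
    cases h0 : Nat.beq c 0 with
    | true =>
      simp only [h0, cond_true, Bool.and_eq_true, leq, decide_eq_true_eq] at h
      rw [h.2]
      simpa using hsq x
    | false =>
      simp only [h0, cond_false] at h
      cases h1 : Nat.beq c 1 with
      | true =>
        simp only [h1, cond_true, Bool.and_eq_true, leq, decide_eq_true_eq] at h
        have hxy : x < y := by simpa using h.1
        have hy : y < 13 := by simpa using h.2.1
        have mx := letter_mem B F (hxy.trans hy)
        have my := letter_mem B F hy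
        rw [h.2.2, prod_replicate]
        simp only [List.map_cons, List.map_nil, List.prod_cons, List.prod_nil, mul_one]
        cases hp : pairCom x y with
        | true =>
          rw [cond_true, ((pairCom_iff B F hxy hy).1 hp).mul_pow, pow_two, pow_two, hsq, hsq, one_mul]
        | false =>
          rw [cond_false]
          exact pow_three B.set3 mx my fun hc => by simp [(pairCom_iff B F hxy hy).2 hc] at hp
      | false =>
        simp only [h1, cond_false] at h
        cases h2 : Nat.beq c 2 with
        | true =>
          simp only [h2, cond_true, Bool.and_eq_true, leq, decide_eq_true_eq] at h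
          have hx : x < 11 := by simpa using h.1
          have hy : y < 693 := by simpa using h.2.1
          rw [h.2.2]
          refine prod_canon hsq ?_
          simp only [List.map_append, List.prod_append, List.map_cons, List.map_nil, List.prod_cons, List.prod_nil,
            mul_one, prod_wordOf B F hy, prod_wordOf B F (mul_lt (gens_lt hx) hy), letter_gen hx, gp,
            F.labelled.map _ (gens_lt hx) y hy]
          have hm := (F.labelled.mem _ (gens_lt hx)).1
          have hm' := (F.labelled.mem y hy).1
          rw [inv_eq B.set3 hm]
          set g := lab (gensL.getD x 0)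
          calc g * lab y * g * (g * lab y * g) = g * lab y * (g * g) * lab y * g := by simp only [mul_assoc]
            _ = g * (lab y * lab y) * g := by rw [mul_self B.set3 hm, mul_one]; simp only [mul_assoc]
            _ = 1 := by rw [mul_self B.set3 hm', mul_one, mul_self B.set3 hm]
        | false =>
          simp only [h2, cond_false] at h
          cases h3 : Nat.beq c 3 with
          | true =>
            simp only [h3, cond_true, Bool.and_eq_true, leq, decide_eq_true_eq] at h
            have hx : x < 693 := by simpa using h.1
            have hm := (F.labelled.mem x hx).1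
            rw [h.2, prod_replicate, List.map_cons, List.prod_cons, prod_wordOf B F hx]
            show (b * lab x) ^ _ = 1
            cases hp : memb x std.p0 with
            | true =>
              rw [cond_true, ((F.pat x hx).2 (memb_iff_mem.1 hp)).mul_pow, pow_two, pow_two,
                mul_self B.set3 F.mem, mul_self B.set3 hm, one_mul]
            | false =>
              rw [cond_false]
              exact pow_three B.set3 F.mem hm fun hc => by simp [memb_iff_mem.2 ((F.pat x hx).1 hc)] at hp
          | false =>
            simp only [h3, cond_false, leq, decide_eq_true_eq] at h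
            rw [h]
            refine prod_canon hsq ?_
            have hW : (linkWord.map (letter a b lab)).prod = ((sixPts.drop 3).map lab).prod := by
              have hlt : ∀ r ∈ sixPts.drop 3, r < 693 := by decide
              rw [linkWord, List.map_flatMap, List.flatMap_def, List.prod_flatten, List.map_map]
              exact congrArg List.prod (List.map_congr_left fun r hr => prod_wordOf B F (hlt r hr))
            simp only [List.map_append, List.prod_append,
              CfsgLib.ThreeTrans.CosetIndex.prod_reverse_eq_inv _ hsq, hW]
            simp only [List.map_cons, List.map_nil, List.prod_cons, List.prod_nil, mul_one]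
            show ((sixPts.drop 3).map lab).prod * b * (((sixPts.drop 3).map lab).prod)⁻¹ * (a * (b * a)) = 1
            rw [link B F]
            calc a * b * a * (a * (b * a)) = a * (b * (a * a) * b) * a := by simp only [mul_assoc]
              _ = 1 := by rw [mul_self B.set3 B.mem, mul_one, mul_self B.set3 F.mem, mul_one, mul_self B.set3 B.mem]
  have gen : ∀ (ks : List ℕ) (ws : List (List ℕ)), relsOK ks ws = true → ∀ w ∈ ws, (w.map (letter a b lab)).prod = 1 := by
    intro ks
    induction ks with
    | nil => intro ws h w hw; simp [relsOK] at h; simp [h] at hw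
    | cons k ks ih =>
      intro ws h
      cases ws with
      | nil => simp [relsOK] at h
      | cons w ws =>
        have h' : (relOK (k % 8) (k / 8 % 1024) (k / 8192) w && relsOK ks ws) = true := h
        rw [Bool.and_eq_true] at h'
        exact List.forall_mem_cons.2 ⟨key _ _ _ _ h'.1, ih ws h'.2⟩
  exact gen _ _ rels_checked

end Frame

end CfsgLib.Recog.FiM22
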