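import Cfsg.Agent.Lib.Recog.FiM22.Arith
import Cfsg.Agent.Lib.Recog.FiM22.WordData
import Cfsg.Agent.Lib.Recog.SporBound.Fi22U6.Group

set_option autoImplicit false
set_option maxRecDepth 20000

/-!
The transvections of PSU(6, 2) indexed by the 693 isotropic points: conjugation is the coded product
(owner: helper13).
-/

namespace CfsgLib.Recog.FiM22

open CfsgLib.Recog.SporBound.Fi22U6
open scoped Matrix
open CfsgLib.ThreeTrans.CosetIndex (forallFrom forallFrom_elim)

/-- The projective unitary group. -/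
abbrev Q6 : Type := Cfsg.PSU 6 F4 2

/-- The transvection at a point, in SU. -/
noncomputable def S (r : ℕ) : SU6 := tsu (vec (code r))

/-- The transvection at a point. -/
noncomputable def T (r : ℕ) : Q6 := (S r : Q6)

theorem vec_bijective : Function.Bijective fun c : Fin 4096 => vec (c : ℕ) := by
  have hr : ∀ c : Fin 4096, (c : ℕ) = dig c 0 + 4 * dig c 1 + 16 * dig c 2 + 64 * dig c 3 + 256 * dig c 4 +
      1024 * dig c 5 := by
    have h : forallFrom (fun c => Nat.beq c (dig c 0 + 4 * dig c 1 + 16 * dig c 2 + 64 * dig c 3 + 256 * dig c 4 +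
      1024 * dig c 5)) 0 4096 = true := by decide +kernel
    exact fun c => Nat.eq_of_beq_eq_true (forallFrom_elim h (Nat.zero_le _) (by omega))
  have hd : ∀ a b : Fin 4, F4.ofNat4 (a : ℕ) = F4.ofNat4 (b : ℕ) → a = b := by decide +kernel
  refine (Fintype.bijective_iff_injective_and_card _).2 ⟨fun a b h => Fin.ext ?_, ?_⟩
  · have e : ∀ k : Fin 6, dig (a : ℕ) k = dig (b : ℕ) k := fun k =>
      Fin.val_eq_of_eq (hd ⟨_, dig_lt _ _⟩ ⟨_, dig_lt _ _⟩ (congrFun h k))
    rw [hr a, hr b, show dig (a : ℕ) 0 = dig (b : ℕ) 0 from e 0, show dig (a : ℕ) 1 = dig (b : ℕ) 1 from e 1,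
      show dig (a : ℕ) 2 = dig (b : ℕ) 2 from e 2, show dig (a : ℕ) 3 = dig (b : ℕ) 3 from e 3,
      show dig (a : ℕ) 4 = dig (b : ℕ) 4 from e 4, show dig (a : ℕ) 5 = dig (b : ℕ) 5 from e 5]
  · rw [Fintype.card_fun, Fintype.card_fin, Fintype.card_fin, F4.card]; norm_num

theorem vec_inj {a b : ℕ} (ha : a < 4096) (hb : b < 4096) (h : vec a = vec b) : a = b :=
  Fin.val_eq_of_eq (vec_bijective.1 (a₁ := ⟨a, ha⟩) (a₂ := ⟨b, hb⟩) h)

theorem vec_zero : vec 0 = 0 := funext fun i => by fin_cases i <;> decide +kernel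

theorem ofNat4_eq : ∀ x : Fin 4, (F4.ofNat4 (x : ℕ) = 0 ↔ (x : ℕ) = 0) ∧ (F4.ofNat4 (x : ℕ) = 1 ↔ (x : ℕ) = 1) := by
  decide +kernel

theorem ofNat4_ne_zero {l : ℕ} (h0 : 0 < l) (h4 : l < 4) : F4.ofNat4 l ≠ 0 := fun e =>
  h0.ne' (((ofNat4_eq ⟨l, h4⟩).1.1) e)

theorem dot_iso {r : ℕ} (hr : r < 693) : Cfsg.hermForm 6 F4 2 (vec (code r)) (vec (code r)) = 0 := by
  rw [← (dot_spec _ _).2, (code_spec hr).2.2.1]
  rfl

/-- An isotropic vector other than zero is a multiple of the vector of one point. -/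
theorem point_of {v : Fin 6 → F4} (hv : v ≠ 0) (hi : Cfsg.hermForm 6 F4 2 v v = 0) :
    ∃ r < 693, ∃ l : F4, l ≠ 0 ∧ v = l • vec (code r) := by
  obtain ⟨c, rfl⟩ := vec_bijective.2 v
  have h0 : (c : ℕ) ≠ 0 := fun e => hv (by show vec (c : ℕ) = 0; rw [e, vec_zero])
  have hd : dot (c : ℕ) c = 0 := by
    have := dot_spec (c : ℕ) c
    exact ((ofNat4_eq ⟨_, this.1⟩).1.1 (this.2.trans hi))
  obtain ⟨hr, l, hl0, hl4, e⟩ := idx_spec c.2 h0 hd
  refine ⟨_, hr, F4.ofNat4 l, ofNat4_ne_zero hl0 hl4, ?_⟩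
  show vec (c : ℕ) = _
  rw [← (scl_spec hl4 (code_spec hr).1).2, e]

/-- Multiples of the vectors of two points agree only for equal points. -/
theorem point_unique {r s : ℕ} (hr : r < 693) (hs : s < 693) {l : F4} (hl : l ≠ 0)
    (h : vec (code r) = l • vec (code s)) : r = s := by
  have hn : ∀ x : F4, F4.num x < 4 ∧ F4.ofNat4 (F4.num x) = x ∧ (x ≠ 0 → 0 < F4.num x) := by decide +kernel
  obtain ⟨h4, e, h0⟩ := hn l
  have h1 := scl_spec h4 (code_spec hs).1
  have : code r = scl (F4.num l) (code s) := vec_inj (code_spec hr).1 h1.1 (by rw [h1.2, e, h])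
  have h2 := (code_spec hr).2.2.2 1 (by omega) (by omega)
  rw [show scl 1 (code r) = code r from rfl, this] at h2
  rw [← h2, (code_spec hs).2.2.2 _ (h0 hl) h4]

theorem S_sq (r : ℕ) (hr : r < 693) : S r * S r = 1 := by
  have h0 : (2 : F4) = 0 := by decide +kernel
  refine eq_of_mulVec fun x => ?_
  rw [mat_mul, ← Matrix.mulVec_mulVec, S, tsu_apply (dot_iso hr), tsu_apply (dot_iso hr), mat_one,
    Matrix.one_mulVec]
  have hlin : Cfsg.hermForm 6 F4 2 (x + Cfsg.hermForm 6 F4 2 x (vec (code r)) • vec (code r)) (vec (code r)) =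
      Cfsg.hermForm 6 F4 2 x (vec (code r)) := by
    have : ∀ (a b v : Fin 6 → F4) (c : F4), Cfsg.hermForm 6 F4 2 (a + c • b) v =
        Cfsg.hermForm 6 F4 2 a v + c * Cfsg.hermForm 6 F4 2 b v := fun a b v c => by
      simp only [Cfsg.hermForm, Finset.mul_sum, ← Finset.sum_add_distrib]
      exact Finset.sum_congr rfl fun j _ => by simp only [Pi.add_apply, Pi.smul_apply, smul_eq_mul]; ring
    rw [this, dot_iso hr, mul_zero, add_zero]
  rw [hlin, add_assoc, ← add_smul, ← two_mul, h0, zero_mul, zero_smul, add_zero]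

theorem center_sq {z : SU6} (hz : z ∈ Subgroup.center SU6) (h2 : z * z = 1) : z = 1 := by
  have hc : Nat.card (Subgroup.center SU6) = 3 := by
    rw [CfsgLib.Classical.Herm.card_center_SU (q := 2) F4.card 6 (by norm_num)]
    rfl
  have h := orderOf_dvd_natCard (⟨z, hz⟩ : Subgroup.center SU6)
  rw [hc, Subgroup.orderOf_mk] at h
  have h2' : orderOf z ∣ 2 := orderOf_dvd_of_pow_eq_one (by rw [pow_two, h2])
  exact orderOf_eq_one_iff.1 (Nat.eq_one_of_dvd_coprimes (by norm_num : Nat.Coprime 3 2) h h2')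

theorem T_sq {r : ℕ} (hr : r < 693) : T r * T r = 1 := by
  rw [T, ← QuotientGroup.mk_mul, S_sq r hr]
  rfl

theorem S_eq_of_T_eq {r s : ℕ} (hr : r < 693) (hs : s < 693) (h : T r = T s) : S r = S s := by
  rw [T, T, QuotientGroup.eq] at h
  have e : (S r)⁻¹ * S s = 1 := center_sq h (by
    have hc := Subgroup.mem_center_iff.1 h
    calc (S r)⁻¹ * S s * ((S r)⁻¹ * S s) = S r * ((S r)⁻¹ * S s) * (S r)⁻¹ * ((S r)⁻¹ * S s) * 1 := by
          rw [hc (S r)]; group
      _ = _ := by
          rw [show S r * ((S r)⁻¹ * S s) * (S r)⁻¹ * ((S r)⁻¹ * S s) = S s * ((S r * S r)⁻¹) * S s by group,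
            S_sq r hr, inv_one, mul_one, mul_one, S_sq s hs])
  exact eq_of_inv_mul_eq_one e

theorem exists_herm_one {v : Fin 6 → F4} (hv : v ≠ 0) : ∃ x, Cfsg.hermForm 6 F4 2 x v = 1 := by
  obtain ⟨i, hi⟩ : ∃ i, v i ≠ 0 := Function.ne_iff.1 hv
  have cube : ∀ x : F4, x ≠ 0 → x * x ^ 2 = 1 := by decide +kernel
  refine ⟨Pi.single i (v i), ?_⟩
  rw [Cfsg.hermForm, Finset.sum_eq_single i]
  · simp [cube _ hi]
  · intro j _ hj; simp [Pi.single_eq_of_ne hj]
  · simp

theorem code_vec_ne {r : ℕ} (hr : r < 693) : vec (code r) ≠ 0 := fun e =>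
  (code_spec hr).2.1 (vec_inj (code_spec hr).1 (by norm_num) (e.trans vec_zero.symm))

theorem T_inj {r s : ℕ} (hr : r < 693) (hs : s < 693) (h : T r = T s) : r = s := by
  have hS := S_eq_of_T_eq hr hs h
  obtain ⟨x, hx⟩ := exists_herm_one (code_vec_ne hr)
  have e := congrArg (fun A => mat A *ᵥ x) hS
  simp only [S, tsu_apply (dot_iso hr), tsu_apply (dot_iso hs), hx, one_smul] at e
  have e' := add_left_cancel e
  exact point_unique hr hs (fun hl => code_vec_ne hr (by rw [e', hl, zero_smul])) e'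

theorem mul_def (r s : ℕ) : mul r s = cond (Nat.beq (dot (code s) (code r)) 0) s
    (idx (Nat.xor (code s) (scl (dot (code s) (code r)) (code r)))) := rfl

theorem com_def (r s : ℕ) : com r s = Nat.beq (dot (code s) (code r)) 0 := rfl

theorem mul_spec {r s : ℕ} (hr : r < 693) (hs : s < 693) :
    mul r s < 693 ∧ (mul r s = s ↔ com r s = true) ∧ S r * S s * (S r)⁻¹ = S (mul r s) := by
  have hconj : S r * S s * (S r)⁻¹ = tsu (vec (code s) + F4.ofNat4 (dot (code s) (code r)) • vec (code r)) := by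
    rw [S, S, tsu_conj _ (dot_iso hs), tsu_apply (dot_iso hr), (dot_spec _ _).2]
  cases hb : Nat.beq (dot (code s) (code r)) 0 with
  | true =>
    rw [mul_def, hb, cond_true]
    refine ⟨hs, iff_of_true rfl (by rw [com_def, hb]), ?_⟩
    rw [hconj, Nat.eq_of_beq_eq_true hb, show F4.ofNat4 0 = 0 from rfl, zero_smul, add_zero]
    rfl
  | false =>
    set k := dot (code s) (code r) with hk
    have hk4 : k < 4 := (dot_spec _ _).1
    have hk0 : 0 < k := Nat.pos_of_ne_zero fun e => by simp [e] at hb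
    obtain ⟨hlt, hvs⟩ := scl_spec hk4 (code_spec hr).1
    set c := Nat.xor (code s) (scl k (code r)) with hc
    have hc4 : c < 4096 := Nat.xor_lt_two_pow (n := 12) (code_spec hs).1 hlt
    have hvc : vec c = vec (code s) + F4.ofNat4 k • vec (code r) := by rw [hc, vec_xor, hvs]
    have hne : ∀ l : F4, vec c ≠ l • vec (code s) := by
      intro l e
      rw [hvc] at e
      have e2 : F4.ofNat4 k • vec (code r) = (l + 1) • vec (code s) := by
        have h2 : ∀ x : F4, x + x = 0 := by decide +kernel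
        funext i
        have := congrFun e i
        simp only [Pi.add_apply, Pi.smul_apply, smul_eq_mul] at this ⊢
        rw [add_mul, one_mul, ← this, add_assoc, add_comm (F4.ofNat4 k * _) (vec (code s) i), ← add_assoc, h2,
          zero_add]
      have hl1 : l + 1 ≠ 0 := fun h0 => code_vec_ne hr (by
        rw [h0, zero_smul] at e2
        exact (smul_eq_zero.1 e2).resolve_left (ofNat4_ne_zero hk0 hk4))
      have : r = s := point_unique hr hs (l := (F4.ofNat4 k)⁻¹ * (l + 1))
        (mul_ne_zero (inv_ne_zero (ofNat4_ne_zero hk0 hk4)) hl1)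
        (by rw [← smul_smul, ← e2, inv_smul_smul₀ (ofNat4_ne_zero hk0 hk4)])
      subst this
      rw [hk, (code_spec hr).2.2.1] at hk0
      omega
    have h0 : c ≠ 0 := fun e => hne 0 (by rw [e, vec_zero, zero_smul])
    have hciso : Cfsg.hermForm 6 F4 2 (vec c) (vec c) = 0 := by
      rw [hvc, show vec (code s) + F4.ofNat4 k • vec (code r) = mat (S r) *ᵥ vec (code s) by
        rw [S, tsu_apply (dot_iso hr), hk, (dot_spec _ _).2], form_eq, dot_iso hs]
    have hd : dot c c = 0 := (ofNat4_eq ⟨_, (dot_spec c c).1⟩).1.1 ((dot_spec c c).2.trans hciso)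
    obtain ⟨hi, l, hl0, hl4, e⟩ := idx_spec hc4 h0 hd
    rw [mul_def, hb, cond_false]
    refine ⟨hi, ⟨fun h => absurd ?_ (hne (F4.ofNat4 l)), fun h => by rw [com_def, hb] at h; exact absurd h (by simp)⟩, ?_⟩
    · rw [h] at e
      rw [← (scl_spec hl4 (code_spec hs).1).2, e]
    · have hl := (scl_spec hl4 (code_spec hi).1).2
      rw [e] at hl
      rw [hconj, ← hvc, hl, tsu_smul (dot_iso hi) (ofNat4_ne_zero hl0 hl4)]
      rfl

theorem mul_lt {r s : ℕ} (hr : r < 693) (hs : s < 693) : mul r s < 693 := (mul_spec hr hs).1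

theorem mul_eq_iff {r s : ℕ} (hr : r < 693) (hs : s < 693) : mul r s = s ↔ com r s = true :=
  (mul_spec hr hs).2.1

theorem T_conj {r s : ℕ} (hr : r < 693) (hs : s < 693) : T r * T s * (T r)⁻¹ = T (mul r s) := by
  rw [T, T, T, ← QuotientGroup.mk_mul, ← QuotientGroup.mk_inv, ← QuotientGroup.mk_mul, (mul_spec hr hs).2.2]

theorem T_inv {r : ℕ} (hr : r < 693) : (T r)⁻¹ = T r := inv_eq_of_mul_eq_one_right (T_sq hr)

theorem mul_mul_self {r s : ℕ} (hr : r < 693) (hs : s < 693) : mul r (mul r s) = s := by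
  refine T_inj (mul_lt hr (mul_lt hr hs)) hs ?_
  rw [← T_conj hr (mul_lt hr hs), ← T_conj hr hs,
    show T r * (T r * T s * (T r)⁻¹) * (T r)⁻¹ = T r * T r * T s * (T r * T r)⁻¹ by group, T_sq hr]
  simp

theorem mul_self_point {r : ℕ} (hr : r < 693) : mul r r = r := by
  refine T_inj (mul_lt hr hr) hr ?_
  rw [← T_conj hr hr]; group

theorem mul_conj {r s t : ℕ} (hr : r < 693) (hs : s < 693) (ht : t < 693) :
    mul r (mul s t) = mul (mul r s) (mul r t) := by
  refine T_inj (mul_lt hr (mul_lt hs ht)) (mul_lt (mul_lt hr hs) (mul_lt hr ht)) ?_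
  rw [← T_conj hr (mul_lt hs ht), ← T_conj hs ht, ← T_conj (mul_lt hr hs) (mul_lt hr ht), ← T_conj hr hs,
    ← T_conj hr ht]
  group

theorem com_iff {r s : ℕ} (hr : r < 693) (hs : s < 693) : com r s = true ↔ Commute (T r) (T s) := by
  rw [← mul_eq_iff hr hs]
  refine ⟨fun h => mul_inv_eq_iff_eq_mul.1 ((T_conj hr hs).trans (by rw [h])), fun h => T_inj (mul_lt hr hs) hs ?_⟩
  rw [← T_conj hr hs, h.eq, mul_inv_cancel_right]

theorem com_comm {r s : ℕ} (hr : r < 693) (hs : s < 693) : com r s = com s r :=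
  Bool.eq_iff_iff.2 (by rw [com_iff hr hs, com_iff hs hr]; exact ⟨Commute.symm, Commute.symm⟩)

theorem com_self {r : ℕ} (hr : r < 693) : com r r = true := (mul_eq_iff hr hr).1 (mul_self_point hr)

theorem T_ne_one {r : ℕ} (hr : r < 693) : T r ≠ 1 := by
  intro h
  have hall : ∀ t < 693, T t = 1 → False := fun t ht h1 => by
    obtain ⟨x, hx⟩ := exists_herm_one (code_vec_ne ht)
    rw [T, QuotientGroup.eq_one_iff] at h1
    have e := congrArg (fun A => mat A *ᵥ x) (center_sq h1 (S_sq t ht))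
    simp only [S, tsu_apply (dot_iso ht), hx, one_smul, mat_one, Matrix.one_mulVec] at e
    exact code_vec_ne ht (add_eq_left.1 e)
  exact hall r hr h

theorem closure_T : Subgroup.closure {x : Q6 | ∃ r < 693, x = T r} = ⊤ := by
  rw [eq_top_iff, ← Subgroup.map_top_of_surjective _ (QuotientGroup.mk'_surjective (Subgroup.center SU6)),
    ← closure_tsu, MonoidHom.map_closure, Subgroup.closure_le]
  rintro _ ⟨_, ⟨v, hv, rfl⟩, rfl⟩
  by_cases hv0 : v = 0
  · rw [show tsu v = 1 from eq_of_mulVec fun x => by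
      rw [tsu_apply hv, hv0, smul_zero, add_zero, mat_one, Matrix.one_mulVec], map_one]
    exact one_mem _
  obtain ⟨r, hr, l, hl, rfl⟩ := point_of hv0 hv
  rw [tsu_smul (dot_iso hr) hl]
  exact Subgroup.subset_closure ⟨r, hr, rfl⟩

/-- A permutation of the points compatible with the products. -/
structure IsAut (f : ℕ → ℕ) : Prop where
  lt : ∀ r < 693, f r < 693
  inj : ∀ r < 693, ∀ s < 693, f r = f s → r = s
  map : ∀ r < 693, ∀ s < 693, f (mul r s) = mul (f r) (f s)

theorem IsAut.surj {f : ℕ → ℕ} (hf : IsAut f) {t : ℕ} (ht : t < 693) : ∃ r < 693, f r = t := by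
  have h : Function.Injective fun r : Fin 693 => (⟨f r, hf.lt r r.2⟩ : Fin 693) := fun a b e =>
    Fin.ext (hf.inj a a.2 b b.2 (Fin.val_eq_of_eq e))
  obtain ⟨r, hr⟩ := Finite.injective_iff_surjective.1 h ⟨t, ht⟩
  exact ⟨r, r.2, Fin.val_eq_of_eq hr⟩

theorem IsAut.com {f : ℕ → ℕ} (hf : IsAut f) {r s : ℕ} (hr : r < 693) (hs : s < 693) :
    com (f r) (f s) = FiM22.com r s := by
  rw [Bool.eq_iff_iff, ← mul_eq_iff (hf.lt r hr) (hf.lt s hs), ← mul_eq_iff hr hs, ← hf.map r hr s hs]
  exact ⟨fun h => hf.inj _ (mul_lt hr hs) s hs h, fun h => by rw [h]⟩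

theorem isAut_id : IsAut id := ⟨fun _ h => h, fun _ _ _ _ h => h, fun _ _ _ _ => rfl⟩

theorem IsAut.comp {f g : ℕ → ℕ} (hf : IsAut f) (hg : IsAut g) : IsAut (f ∘ g) :=
  ⟨fun r h => hf.lt _ (hg.lt r h), fun r hr s hs h => hg.inj r hr s hs (hf.inj _ (hg.lt r hr) _ (hg.lt s hs) h),
    fun r hr s hs => (congrArg f (hg.map r hr s hs)).trans (hf.map _ (hg.lt r hr) _ (hg.lt s hs))⟩

theorem isAut_mul {r : ℕ} (hr : r < 693) : IsAut (mul r) :=
  ⟨fun _ h => mul_lt hr h, fun s hs t ht h => by rw [← mul_mul_self hr hs, h, mul_mul_self hr ht],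
    fun _ hs _ ht => mul_conj hr hs ht⟩

theorem isAut_app : ∀ {w : List ℕ}, (∀ r ∈ w, r < 693) → IsAut (app w)
  | [], _ => isAut_id
  | r :: w, h => (isAut_mul (h r List.mem_cons_self)).comp (isAut_app fun s hs => h s (List.mem_cons_of_mem _ hs))

/-- The record of a point. -/
noncomputable def wrec (r : ℕ) : ℕ :=
  Nat.land (Nat.shiftRight (wordTree.get (Nat.shiftRight r 5)) (Nat.mul 64 (Nat.land r 31))) 18446744073709551615

/-- The letter with a number in the word of a point. -/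
noncomputable def wlet (r i : ℕ) : ℕ := Nat.land (Nat.shiftRight (wrec r) (Nat.mul 4 (Nat.add i 1))) 15

/-- The letters of the word of a point but the last. -/
noncomputable def wordH (r : ℕ) : List ℕ := (List.range (Nat.sub (Nat.land (wrec r) 15) 1)).map (wlet r)

/-- The last letter of the word of a point. -/
noncomputable def wordX (r : ℕ) : ℕ := wlet r (Nat.sub (Nat.land (wrec r) 15) 1)

/-- The check of the word of a point. -/
noncomputable def wordOK (r : ℕ) : Bool :=
  Nat.blt (wordX r) 11 && ((wordH r).all (fun j => Nat.blt j 11) &&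
    Nat.beq (app ((wordH r).map fun j => gensL.getD j 0) (gensL.getD (wordX r) 0)) r)

theorem word_ok : forallFrom wordOK 0 693 = true := by decide +kernel

theorem gens_lt {j : ℕ} (hj : j < 11) : gensL.getD j 0 < 693 := by
  interval_cases j <;> decide

theorem word_spec {r : ℕ} (hr : r < 693) : wordX r < 11 ∧ (∀ j ∈ wordH r, j < 11) ∧
    app ((wordH r).map fun j => gensL.getD j 0) (gensL.getD (wordX r) 0) = r := by
  have h := forallFrom_elim word_ok (Nat.zero_le r) (by omega)
  simp only [wordOK, Bool.and_eq_true, Nat.beq_eq, List.all_eq_true] at h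
  exact ⟨by simpa using h.1, fun j hj => by simpa using h.2.1 j hj, h.2.2⟩

/-- Whatever holds at the generators and passes along transvections holds at every point. -/
theorem point_induction {P : ℕ → Prop} (h0 : ∀ j < 11, P (gensL.getD j 0))
    (hs : ∀ j < 11, ∀ r < 693, P r → P (mul (gensL.getD j 0) r)) {r : ℕ} (hr : r < 693) : P r := by
  obtain ⟨hx, hh, e⟩ := word_spec hr
  have key : ∀ w : List ℕ, (∀ j ∈ w, j < 11) → P (app (w.map fun j => gensL.getD j 0) (gensL.getD (wordX r) 0)) ∧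
      app (w.map fun j => gensL.getD j 0) (gensL.getD (wordX r) 0) < 693 := by
    intro w
    induction w with
    | nil => exact fun _ => ⟨h0 _ hx, gens_lt hx⟩
    | cons j w ih =>
      intro hw
      obtain ⟨i1, i2⟩ := ih fun k hk => hw k (List.mem_cons_of_mem _ hk)
      rw [List.map_cons, app_cons]
      exact ⟨hs j (hw j List.mem_cons_self) _ i2 i1, mul_lt (gens_lt (hw j List.mem_cons_self)) i2⟩
  rw [← e]
  exact (key _ hh).1

/-- The code with the first coordinate multiplied by the generator of the field. -/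
noncomputable def sigc (c : ℕ) : ℕ := Nat.xor c (Nat.xor (dig c 0) (dig (omc c) 0))

/-- The diagonal automorphism. -/
noncomputable def sig (r : ℕ) : ℕ := idx (sigc (code r))

/-- The check of the diagonal automorphism at a point. -/
noncomputable def sigOK (r : ℕ) : Bool :=
  Nat.blt (sig r) 693 && (Nat.beq (sig (sig (sig r))) r &&
    gensL.all fun g => Nat.beq (sig (mul g r)) (mul (sig g) (sig r)))

theorem sig_ok : forallFrom sigOK 0 693 = true := by decide +kernel

theorem isAut_sig : IsAut sig := by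
  have h : ∀ r < 693, sig r < 693 ∧ sig (sig (sig r)) = r ∧
      ∀ j < 11, sig (mul (gensL.getD j 0) r) = mul (sig (gensL.getD j 0)) (sig r) := fun r hr => by
    have h := forallFrom_elim sig_ok (Nat.zero_le r) (by omega)
    simp only [sigOK, Bool.and_eq_true, Nat.beq_eq, List.all_eq_true] at h
    refine ⟨by simpa using h.1, h.2.1, fun j hj => h.2.2 _ ?_⟩
    rw [List.getD_eq_getElem _ _ (by simpa [gensL] using hj)]
    exact List.getElem_mem _
  refine ⟨fun r hr => (h r hr).1, fun r hr s hs e => by rw [← (h r hr).2.1, e, (h s hs).2.1], ?_⟩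
  intro r hr
  refine point_induction (P := fun r => ∀ s < 693, sig (mul r s) = mul (sig r) (sig s)) (fun j hj s hs => (h s hs).2.2 j hj) ?_ hr
  intro j hj r hr ih s hs
  have hg := gens_lt hj
  rw [show mul (mul (gensL.getD j 0) r) s = mul (gensL.getD j 0) (mul r (mul (gensL.getD j 0) s)) by
    rw [mul_conj hg hr (mul_lt hg hs), mul_mul_self hg hs], (h _ (mul_lt hr (mul_lt hg hs))).2.2 j hj, ih _ (mul_lt hg hs),
    (h s hs).2.2 j hj, (h r hr).2.2 j hj, mul_conj (h _ hg).1 (h r hr).1 (mul_lt (h _ hg).1 (h s hs).1),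
    mul_mul_self (h _ hg).1 (h s hs).1]

end CfsgLib.Recog.FiM22
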