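import Cfsg.Agent.Lib.Recog.FiM22.Relations
import Cfsg.Agent.Lib.Recog.FiM22.Enum.Valid

set_option autoImplicit false
set_option maxRecDepth 20000

/-!
The conjugation of the 3510 members by the thirteen letters follows the table of the certificate
(owner: helper13).
-/

namespace CfsgLib.Recog.FiM22

open Cfsg CfsgLib.ThreeTrans CfsgLib.Recog.SporBound
open CfsgLib.ThreeTrans.CosetIndex (fld forallFrom forallFrom_elim Good actW eqLetter)

/-- The image of a coset under a letter. -/
noncomputable def tab (x c : ℕ) : ℕ := getP (permList.getD x 0) c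

/-- The image of a coset under a word, the last letter first. -/
noncomputable def trW (w : List ℕ) (c : ℕ) : ℕ :=
  List.rec (motive := fun _ => ℕ) c (fun x _ ih => tab x ih) w

/-- A closing chain ends at the coset of the table. -/
noncomputable def endOK (i p : ℕ) : Bool :=
  Nat.beq (fld p 0) (tab (Nat.mod i 13) (Nat.div i 13))

/-- The check that the chains end as in the table. -/
noncomputable def endsPart (lo len : ℕ) : Bool :=
  forallFrom (fun k => Cert.allIdx endOK (Enum.cert.finals.get k) (64 * k)) lo len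

theorem ends_checked : endsPart 0 713 = true := by decide +kernel

theorem allIdx_and {f g : ℕ → ℕ → Bool} : ∀ {L : List ℕ} {s : ℕ}, Cert.allIdx f L s = true →
    Cert.allIdx g L s = true → Cert.allIdx (fun i p => f i p && g i p) L s = true
  | [], _, _, _ => rfl
  | p :: L, s, h, h' => by
    have a1 : (f s p && Cert.allIdx f L (s + 1)) = true := h
    have a2 : (g s p && Cert.allIdx g L (s + 1)) = true := h'
    rw [Bool.and_eq_true] at a1 a2
    show ((f s p && g s p) && Cert.allIdx (fun i p => f i p && g i p) L (s + 1)) = true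
    simp [a1.1, a2.1, allIdx_and a1.2 a2.2]

theorem final_spec {x c : ℕ} (hx : x < 13) (hc : c < 3510) :
    ∃ p, Enum.cert.endsAt p (Enum.cert.nodeOf c) [x] = true ∧ fld p 0 = tab x c := by
  set i := c * 13 + x with hi
  have hM : i < 45630 := by omega
  have hf := forallFrom_elim (show forallFrom _ 0 713 = true from Enum.finals_all) (i := i / 64) (Nat.zero_le _)
    (by omega)
  have he := forallFrom_elim ends_checked (i := i / 64) (Nat.zero_le _) (by omega)
  simp only [Bool.and_eq_true, Bool.or_eq_true, Nat.beq_eq, Nat.ble_eq] at hf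
  have hlen : i < 64 * (i / 64) + (Enum.cert.finals.get (i / 64)).length := by
    rcases hf.2 with h | h
    · omega
    · rw [show Enum.cert.n * Enum.cert.kl.length = 45630 from rfl] at h; omega
  obtain ⟨p, hp⟩ := Cert.allIdx_elim (allIdx_and hf.1 he) i (by omega) hlen
  simp only [Bool.and_eq_true, Cert.finalOK, endOK, Nat.beq_eq] at hp
  have ed : i / Enum.cert.kl.length = c := by rw [show Enum.cert.kl.length = 13 from rfl]; omega
  have em : i % Enum.cert.kl.length = x := by rw [show Enum.cert.kl.length = 13 from rfl]; omega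
  rw [ed, em, show Enum.cert.kl.getD x 0 = x by interval_cases x <;> rfl] at hp
  refine ⟨p, hp.1, hp.2.trans ?_⟩
  show tab (i % 13) (i / 13) = _
  rw [show i % 13 = x by omega, show i / 13 = c by omega]

universe u

variable {G : Type u} [Group G] [Finite G] {D : Set G} {a b : G} {lab : ℕ → G}

theorem wordOf_lt {r : ℕ} (hr : r < 693) : ∀ x ∈ wordOf r, x < 13 := by
  obtain ⟨hX, hh, -⟩ := word_spec hr
  intro x hx
  simp only [wordOf, List.mem_append, List.mem_cons, List.mem_reverse, List.mem_map] at hx
  rcases hx with ⟨j, hj, rfl⟩ | rfl | ⟨j, hj, rfl⟩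
  · have := hh j hj; omega
  · omega
  · have := hh j hj; omega

theorem letters_top (B : Base D a) (F : Frame D a b lab) :
    Subgroup.closure {g : G | ∃ x ∈ Enum.cert.kl, g = letter a b lab x} = ⊤ := by
  set M := Subgroup.closure {g : G | ∃ x ∈ Enum.cert.kl, g = letter a b lab x} with hM
  have hkl : ∀ x < 13, x ∈ Enum.cert.kl := fun x hx => by interval_cases x <;> decide
  have hlt : ∀ x ∈ Enum.cert.kl, x < 13 := by decide
  have hgen : ∀ x < 13, letter a b lab x ∈ M := fun x hx => Subgroup.subset_closure ⟨x, hkl x hx, rfl⟩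
  have hlab : ∀ r < 693, lab r ∈ M := fun r hr => by
    rw [← prod_wordOf B F hr]
    refine list_prod_mem fun y hy => ?_
    obtain ⟨x, hx, rfl⟩ := List.mem_map.1 hy
    exact hgen x (wordOf_lt hr x hx)
  have hle : Subgroup.closure {y : G | y ∈ D ∧ Commute a y} ≤ M := by
    refine (Subgroup.closure_le _).2 fun y hy => ?_
    by_cases e : y = a
    · subst e; exact hgen 0 (by norm_num)
    · obtain ⟨r, hr, rfl⟩ := F.labelled.surj y ⟨hy.1, e, hy.2⟩
      exact hlab r hr
  have hD' : IsDSubgroup D M := by
    refine le_antisymm ((Subgroup.closure_le _).2 fun y hy => hy.2) ?_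
    refine (Subgroup.closure_le _).2 ?_
    rintro _ ⟨x, hx, rfl⟩
    exact Subgroup.subset_closure ⟨letter_mem B F (hlt x hx), hgen x (hlt x hx)⟩
  rcases closure_commuting_maximal B.grp B.prim B.width B.mem hD' hle with e | e
  · exfalso
    have : b ∈ Subgroup.closure {y : G | y ∈ D ∧ Commute a y} := e ▸ hgen 1 (by norm_num)
    exact F.far (RankThree.commute_closure (fun _ hz => hz.2) this)
  · exact e

/-- The members in the numbering of the table. -/
theorem exists_members (B : Base D a) (F : Frame D a b lab) :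
    ∃ pt : ℕ → G, pt 0 = a ∧
      (∀ x < 13, ∀ c < 3510, tab x c < 3510 ∧
        pt (tab x c) = letter a b lab x * pt c * (letter a b lab x)⁻¹) ∧
      ∀ d, d ∈ D ↔ ∃ c < 3510, d = pt c := by
  have hsq := letter_sq B F
  have he : letter a b lab eqLetter = 1 := letter_big (by decide)
  let H : Subgroup G := Subgroup.centralizer {a}
  have hmemH : ∀ g, g ∈ H ↔ Commute a g := fun g => by
    rw [Subgroup.mem_centralizer_iff]
    exact ⟨fun h => h a rfl, fun h y hy => by rw [Set.mem_singleton_iff.1 hy]; exact h⟩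
  have hsub : Cert.WordsIn (letter a b lab) H Enum.cert.subs := by
    intro w hw
    rw [show Enum.cert.subs = [0, 2, 3, 4, 5, 6, 7, 8, 9, 10, 11, 12].map (fun x => [x]) from rfl] at hw
    obtain ⟨x, hx, rfl⟩ := List.mem_map.1 hw
    rw [List.map_cons, List.map_nil, List.prod_singleton, hmemH]
    have hx' : x < 13 ∧ x ≠ 1 := (by decide : ∀ x ∈ [0, 2, 3, 4, 5, 6, 7, 8, 9, 10, 11, 12], x < 13 ∧ x ≠ 1) x hx
    match x, hx' with
    | 0, _ => exact Commute.refl a
    | j + 2, h =>
      rw [letter_gen (by omega)]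
      exact (F.labelled.mem _ (gens_lt (by omega))).2.2
  obtain ⟨v, hv0, good, horb⟩ := Cert.exists_orbit hsq he Enum.ok H (rel_one B F) hsub
  let cj : G ⧸ H → G := fun q => Quotient.liftOn' q (fun g => g * a * g⁻¹) fun g h hgh => by
    rw [QuotientGroup.leftRel_apply, hmemH] at hgh
    have e : (g⁻¹ * h) * a * (g⁻¹ * h)⁻¹ = a := by rw [← hgh.eq, mul_inv_cancel_right]
    calc g * a * g⁻¹ = g * ((g⁻¹ * h) * a * (g⁻¹ * h)⁻¹) * g⁻¹ := by rw [e]
      _ = h * a * h⁻¹ := by group
  have hcj : ∀ (g : G) (q : G ⧸ H), cj (g • q) = g * cj q * g⁻¹ := fun g q => by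
    induction q using QuotientGroup.induction_on with
    | _ y =>
      show g * y * a * (g * y)⁻¹ = g * (y * a * y⁻¹) * g⁻¹
      group
  refine ⟨fun c => cj (v (Enum.cert.nodeOf c)), ?_, fun x hx c hc => ?_, fun d => ?_⟩
  · show cj (v (Enum.cert.nodeOf 0)) = a
    rw [show Enum.cert.nodeOf 0 = 0 by decide +kernel, hv0]
    show 1 * a * 1⁻¹ = a
    simp
  · obtain ⟨p, hp, hp0⟩ := final_spec hx hc
    unfold Cert.endsAt at hp
    cases hw : Enum.cert.walk Enum.cert.nf p 2 (fld p 1) (Enum.cert.nodeOf c, [x]) with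
    | none => rw [hw] at hp; simp at hp
    | some r =>
      rw [hw] at hp
      simp only [Bool.and_eq_true, Nat.beq_eq, List.isEmpty_iff] at hp
      obtain ⟨u, hu, hu'⟩ := Cert.walk_sound hsq he good hw
      rw [hp.2.2, List.append_nil] at hu
      dsimp only at hu hu'
      rw [← hu] at hu'
      simp only [actW] at hu'
      rw [hp0] at hp
      refine ⟨?_, ?_⟩
      · have := hp.1
        rw [show Enum.cert.n = 3510 from rfl] at this
        simpa using this
      · show cj (v (Enum.cert.nodeOf (tab x c))) = _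
        rw [← hp.2.1, ← hu', hcj]
  constructor
  · intro hd
    obtain ⟨g, rfl⟩ := B.prim.1 a B.mem d hd
    obtain ⟨c, hc, e⟩ := horb g (letters_top B F ▸ Subgroup.mem_top g)
    refine ⟨c, hc, ?_⟩
    show _ = cj (v (Enum.cert.nodeOf c))
    rw [← e, hcj, hv0]
    show g * a * g⁻¹ = g * (1 * a * 1⁻¹) * g⁻¹
    simp
  · rintro ⟨c, hc, rfl⟩
    obtain ⟨g, hg⟩ := QuotientGroup.mk_surjective (v (Enum.cert.nodeOf c))
    show cj (v (Enum.cert.nodeOf c)) ∈ D
    rw [← hg]
    exact B.grp.2.1 g a B.mem

theorem trW_lt {pt : ℕ → G} {L : ℕ → G}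
    (htab : ∀ x < 13, ∀ c < 3510, tab x c < 3510 ∧ pt (tab x c) = L x * pt c * (L x)⁻¹) :
    ∀ {w : List ℕ}, (∀ x ∈ w, x < 13) → ∀ c < 3510,
      trW w c < 3510 ∧ pt (trW w c) = (w.map L).prod * pt c * ((w.map L).prod)⁻¹
  | [], _, c, hc => ⟨hc, by show pt c = _; simp⟩
  | x :: w, hw, c, hc => by
    obtain ⟨h1, h2⟩ := trW_lt htab (w := w) (fun y hy => hw y (List.mem_cons_of_mem _ hy)) c hc
    obtain ⟨h3, h4⟩ := htab x (hw x List.mem_cons_self) _ h1
    refine ⟨h3, ?_⟩
    show pt (tab x (trW w c)) = _
    rw [h4, h2, List.map_cons, List.prod_cons]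
    group

/-- For each letter but the first one a letter not commuting with it. -/
def parents : List ℕ := [0, 0, 1, 2, 10, 10, 10, 10, 10, 2, 1, 1, 1]

/-- For each letter a word carrying the first one to it. -/
def baseWords : List (List ℕ) := [[], [0, 1], [1, 2, 0, 1], [2, 3, 1, 2, 0, 1], [10, 4, 1, 10, 0, 1],
  [10, 5, 1, 10, 0, 1], [10, 6, 1, 10, 0, 1], [10, 7, 1, 10, 0, 1], [10, 8, 1, 10, 0, 1], [2, 9, 1, 2, 0, 1],
  [1, 10, 0, 1], [1, 11, 0, 1], [1, 12, 0, 1]]

/-- The coset of a letter. -/
noncomputable def basePt (x : ℕ) : ℕ := trW (baseWords.getD x []) 0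

/-- The check of the word of a letter. -/
noncomputable def baseOK (x : ℕ) : Bool :=
  let y := parents.getD x 0
  (baseWords.getD x []).all (fun z => Nat.blt z 13) &&
    cond (Nat.beq x 0) (leq (baseWords.getD x []) [])
      (Nat.blt y 13 && (Nat.blt (baseWords.getD y []).length (baseWords.getD x []).length &&
        (leq (baseWords.getD x []) ([y, x] ++ baseWords.getD y []) &&
          cond (Nat.blt x y) (!(pairCom x y)) (Nat.blt y x && !(pairCom y x)))))

theorem base_checked : (List.range 13).all baseOK = true := by decide +kernel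

theorem base_spec (B : Base D a) (F : Frame D a b lab) {pt : ℕ → G} (h0 : pt 0 = a)
    (htab : ∀ x < 13, ∀ c < 3510, tab x c < 3510 ∧
      pt (tab x c) = letter a b lab x * pt c * (letter a b lab x)⁻¹) :
    ∀ x < 13, basePt x < 3510 ∧ pt (basePt x) = letter a b lab x := by
  suffices ∀ n, ∀ x < 13, (baseWords.getD x []).length = n →
      basePt x < 3510 ∧ pt (basePt x) = letter a b lab x from fun x hx => this _ x hx rfl
  intro n
  induction n using Nat.strong_induction_on with
  | _ n ih =>
    intro x hx hn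
    have hOK := List.all_eq_true.1 base_checked x (List.mem_range.2 hx)
    simp only [baseOK, Bool.and_eq_true, List.all_eq_true] at hOK
    obtain ⟨hlt, hrest⟩ := hOK
    have hlt' : ∀ z ∈ baseWords.getD x [], z < 13 := fun z hz => by simpa using hlt z hz
    cases hb : Nat.beq x 0 with
    | true =>
      have e : x = 0 := Nat.eq_of_beq_eq_true hb
      subst e
      exact ⟨show (0 : ℕ) < 3510 by norm_num, h0⟩
    | false =>
      rw [hb, cond_false] at hrest
      set y := parents.getD x 0 with hy
      simp only [Bool.and_eq_true, leq, decide_eq_true_eq] at hrest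
      obtain ⟨hy13, hlen, hw, hcom⟩ := hrest
      have hy' : y < 13 := by simpa using hy13
      obtain ⟨hby, hpy⟩ := ih _ (hn ▸ (by simpa using hlen)) y hy' rfl
      have hnc : ¬ Commute (letter a b lab x) (letter a b lab y) := by
        cases hxy : Nat.blt x y with
        | true =>
          rw [hxy, cond_true, Bool.not_eq_true'] at hcom
          exact fun hc => by simp [(pairCom_iff B F (by simpa using hxy) hy').2 hc] at hcom
        | false =>
          simp only [hxy, cond_false, Bool.and_eq_true, Bool.not_eq_true'] at hcom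
          exact fun hc => by simp [(pairCom_iff B F (by simpa using hcom.1) hx).2 hc.symm] at hcom
      have e : basePt x = tab y (tab x (basePt y)) := by
        show trW _ 0 = _
        rw [hw]
        rfl
      obtain ⟨l1, p1⟩ := htab x hx _ hby
      obtain ⟨l2, p2⟩ := htab y hy' _ l1
      refine ⟨e ▸ l2, ?_⟩
      rw [e, p2, p1, hpy]
      set X := letter a b lab x
      set Y := letter a b lab y
      have hX : X ∈ D := letter_mem B F hx
      have hY : Y ∈ D := letter_mem B F hy'
      rw [inv_eq B.set3 hX, inv_eq B.set3 hY, braid B.set3 hX hY hnc]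
      simp only [mul_assoc, mul_self B.set3 hY, mul_self_assoc B.set3 hY, mul_one]

/-- Words in the letters acting alike on the cosets of the letters have equal values. -/
theorem word_eq (B : Base D a) (F : Frame D a b lab) {u w : List ℕ} (hu : ∀ x ∈ u, x < 13)
    (hw : ∀ x ∈ w, x < 13) (h : ∀ x < 13, trW u (basePt x) = trW w (basePt x)) :
    (u.map (letter a b lab)).prod = (w.map (letter a b lab)).prod := by
  obtain ⟨pt, h0, htab, -⟩ := exists_members B F
  set g := (u.map (letter a b lab)).prod
  set k := (w.map (letter a b lab)).prod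
  have hc : g⁻¹ * k ∈ Subgroup.center G := by
    rw [Subgroup.mem_center_iff]
    intro y
    refine (RankThree.commute_closure (fun d hd => ?_) (letters_top B F ▸ Subgroup.mem_top y : y ∈ _)).eq.symm
    obtain ⟨x, hx, rfl⟩ := hd
    have hx' : x < 13 := (by decide : ∀ x ∈ Enum.cert.kl, x < 13) x hx
    obtain ⟨hb, hp⟩ := base_spec B F h0 htab x hx'
    have e : g * letter a b lab x * g⁻¹ = k * letter a b lab x * k⁻¹ := by
      rw [← hp, ← (trW_lt htab hu _ hb).2, ← (trW_lt htab hw _ hb).2, h x hx']
    show g⁻¹ * k * letter a b lab x = letter a b lab x * (g⁻¹ * k)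
    calc g⁻¹ * k * letter a b lab x = g⁻¹ * (k * letter a b lab x * k⁻¹) * k := by group
      _ = letter a b lab x * (g⁻¹ * k) := by rw [← e]; group
  rw [B.centre, Subgroup.mem_bot, inv_mul_eq_one] at hc
  exact hc

end CfsgLib.Recog.FiM22
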