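import Cfsg.Agent.Lib.Recog.FiM22.Table
import Cfsg.Agent.Lib.Recog.SporBound.Fi22Group

set_option autoImplicit false
set_option maxRecDepth 20000

/-! Traces of the relators of Fi22 and of the words for the last four letters (owner: helper13). -/

namespace CfsgLib.Recog.FiM22

open Cfsg CfsgLib.Recog.SporBound
open CfsgLib.ThreeTrans.CosetIndex (relWords)
open Cfsg.Agent.S1687 (gens)

/-- The relators of the presentation fix the cosets of the letters. -/
noncomputable def relTraceOK : Bool :=
  (relWords Spor.Fi22.edges Spor.Fi22.extra gens).all fun w =>
    w.all (fun x => Nat.blt x 9) && (List.range 13).all fun x => Nat.beq (trW w (basePt x)) (basePt x)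

/-- The last four letters act as words in the first nine. -/
noncomputable def lastOK : Bool :=
  (List.range 4).all fun j => (lastWords.getD j []).all (fun x => Nat.blt x 9) &&
    (List.range 13).all fun x => Nat.beq (trW (lastWords.getD j []) (basePt x)) (tab (j + 9) (basePt x))

theorem relTrace_checked : relTraceOK = true := by decide +kernel

theorem last_checked : lastOK = true := by decide +kernel

end CfsgLib.Recog.FiM22
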